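import Cfsg.Agent.Characters.Orthogonality
import Mathlib.Analysis.Complex.Polynomial.Basic

/-!
# Small character tools: linear characters, transport along isomorphisms, abelian groups
-/

set_option autoImplicit false
set_option linter.style.haveILetI false
set_option linter.unusedSectionVars false

namespace CfsgLib.TwoClasses

universe u v
variable {G : Type u} [Group G]

/-- The one-dimensional representation of a homomorphism into `ℂˣ`. -/
noncomputable def scalarRep (f : G →* ℂˣ) : Representation ℂ G ℂ where
  toFun g := (f g : ℂ) • (1 : Module.End ℂ ℂ)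
  map_one' := by simp
  map_mul' g h := by simp [smul_smul, mul_comm]

/-- A homomorphism into `ℂˣ` is an irreducible character. -/
theorem isIrr_linear (f : G →* ℂˣ) : Cfsg.IsIrrCharacter G (fun g => (f g : ℂ)) := by
  have h : (scalarRep f).character = fun g => (f g : ℂ) := by
    funext g
    simp [Representation.character, scalarRep]
  rw [← h]
  haveI := CfsgLib.Characters.isIrreducible_of_finrank_eq_one (scalarRep f) (Module.finrank_self ℂ)
  exact CfsgLib.Characters.isIrrCharacter_character _

/-- Irreducible characters pull back along isomorphisms. -/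
theorem isIrr_comp_equiv {H : Type v} [Group H] (e : H ≃* G) {χ : G → ℂ}
    (h : Cfsg.IsIrrCharacter G χ) : Cfsg.IsIrrCharacter H (fun y => χ (e y)) := by
  obtain ⟨n, ρ, hρ, rfl⟩ := h
  haveI := CfsgLib.Characters.nontrivial_of_isIrreducible ρ
  refine ⟨n, ρ.comp e.toMonoidHom,
    CfsgLib.Characters.isIrreducible_of_forall _ fun U hU => ?_, rfl⟩
  have hU' : ∀ g x, x ∈ U → ρ g x ∈ U := fun g x hx => by simpa using hU (e.symm g) x hx
  exact (IsSimpleOrder.eq_bot_or_eq_top (⟨U, fun g x hx => hU' g x hx⟩ : Subrepresentation ρ)).imp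
    (congrArg Subrepresentation.toSubmodule) (congrArg Subrepresentation.toSubmodule)

/-- An irreducible character of an abelian group has degree one. -/
theorem irr_degree_one_of_comm (hc : ∀ a b : G, a * b = b * a) {χ : G → ℂ}
    (h : Cfsg.IsIrrCharacter G χ) : χ 1 = 1 := by
  obtain ⟨n, ρ, hρ, rfl⟩ := h
  haveI := CfsgLib.Characters.nontrivial_of_isIrreducible ρ
  obtain ⟨v, hv⟩ := exists_ne (0 : Fin n → ℂ)
  have hinv : ∀ g w, w ∈ (ℂ ∙ v) → ρ g w ∈ (ℂ ∙ v) := by
    intro g w hw
    obtain ⟨c, hcg⟩ :=
      CfsgLib.Characters.central_scalar ρ (z := g) (Subgroup.mem_center_iff.2 fun a => hc a g)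
    rw [hcg, LinearMap.smul_apply, LinearMap.id_apply]
    exact Submodule.smul_mem _ c hw
  rcases IsSimpleOrder.eq_bot_or_eq_top
      (⟨ℂ ∙ v, fun g w hw => hinv g w hw⟩ : Subrepresentation ρ) with h | h
  · exact absurd (Submodule.span_singleton_eq_bot.1
      (congrArg Subrepresentation.toSubmodule h)) hv
  · have h' : (ℂ ∙ v) = ⊤ := congrArg Subrepresentation.toSubmodule h
    have h1 := finrank_span_singleton (K := ℂ) hv
    rw [h', finrank_top] at h1
    rw [Representation.char_one, h1, Nat.cast_one]

end CfsgLib.TwoClasses
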