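import Cfsg.Agent.Characters.Orthogonality
import Mathlib.GroupTheory.GroupAction.ConjAct
import Mathlib.GroupTheory.Index
import Mathlib.RingTheory.IntegralClosure.IntegrallyClosed
import Mathlib.RingTheory.Polynomial.RationalRoot

/-!
# Irreducible characters that are nonzero on exactly two conjugacy classes

If `χ` is such a character of a group of order greater than 2, its support is `{1}` together
with the class of some `x`, of size `c`, and for some `m ≥ 1` we have `χ 1 = m c`, `χ x = -m`,
`#G = m² c (c + 1)` and `ψ x = ψ 1` for every other irreducible character `ψ`.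
-/

set_option autoImplicit false
set_option linter.style.haveILetI false
set_option linter.unusedSectionVars false

namespace CfsgLib.TwoClasses

open scoped ComplexConjugate

universe u
variable {G : Type u} [Group G]

/-! ### Conjugacy class sizes -/

/-- The size of a conjugacy class is the index of the centraliser. -/
theorem conjClass_ncard (x : G) :
    {g | IsConj x g}.ncard = (Subgroup.centralizer ({x} : Set G)).index := by
  rw [Subgroup.centralizer_eq_comap_stabilizer]
  refine Eq.trans ?_ (Subgroup.index_comap_of_surjective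
    (f := (ConjAct.toConjAct : G ≃* ConjAct G).toMonoidHom)
    (MulAction.stabilizer (ConjAct G) x) ConjAct.toConjAct.surjective).symm
  rw [MulAction.index_stabilizer]
  congr 1
  ext g
  rw [Set.mem_ofPred_eq, ConjAct.mem_orbit_conjAct]
  exact ⟨IsConj.symm, IsConj.symm⟩

theorem centralizer_card_mul [Finite G] (x : G) :
    Nat.card (Subgroup.centralizer ({x} : Set G)) * {g | IsConj x g}.ncard = Nat.card G := by
  rw [conjClass_ncard, Subgroup.card_mul_index]

/-! ### The principal character and kernels -/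

/-- The constant function 1 is an irreducible character. -/
theorem isIrr_one : Cfsg.IsIrrCharacter G (fun _ => (1 : ℂ)) := by
  have h : (Representation.trivial ℂ G ℂ).character = fun _ => (1 : ℂ) := by
    funext g
    simp [Representation.character, Representation.trivial]
  rw [← h]
  haveI := CfsgLib.Characters.isIrreducible_of_finrank_eq_one
    (Representation.trivial ℂ G ℂ) (Module.finrank_self ℂ)
  exact CfsgLib.Characters.isIrrCharacter_character _

/-- Where a character takes its degree as value, the representation is trivial. -/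
theorem rep_eq_one_of_char_eq [Finite G] {V : Type*} [AddCommGroup V] [Module ℂ V]
    [FiniteDimensional ℂ V] (ρ : Representation ℂ G V) {g : G}
    (h : ρ.character g = ρ.character 1) : ρ g = 1 := by
  obtain ⟨b, μ, hb⟩ := CfsgLib.Characters.exists_eigenbasis ρ g
  have htr : ρ.character g = ∑ i, μ i := by
    rw [Representation.character, LinearMap.trace_eq_matrix_trace ℂ b, Matrix.trace]
    refine Finset.sum_congr rfl fun i _ => ?_
    rw [Matrix.diag, LinearMap.toMatrix_apply, (hb i).1]
    simp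
  have hre : ∑ i, (1 - (μ i).re) = 0 := by
    have := congrArg Complex.re (htr.symm.trans h)
    rw [Complex.re_sum, Representation.char_one, Complex.natCast_re] at this
    rw [Finset.sum_sub_distrib, this]
    simp
  have hn : ∀ i, ‖μ i‖ = 1 := fun i =>
    Complex.norm_eq_one_of_pow_eq_one (hb i).2 (orderOf_pos g).ne'
  have h1 : ∀ i, μ i = 1 := by
    intro i
    have h0 := (Finset.sum_eq_zero_iff_of_nonneg (fun j _ => by
      have := Complex.re_le_norm (μ j)
      rw [hn] at this
      linarith)).1 hre i (Finset.mem_univ i)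
    have hr : (μ i).re = 1 := by linarith
    have hsq : (μ i).re * (μ i).re + (μ i).im * (μ i).im = 1 := by
      rw [← Complex.normSq_apply, Complex.normSq_eq_norm_sq, hn, one_pow]
    rw [hr] at hsq
    refine Complex.ext (by simpa using hr) ?_
    have : (μ i).im * (μ i).im = 0 := by linarith
    simpa using mul_self_eq_zero.1 this
  refine b.ext fun i => ?_
  rw [(hb i).1, h1, one_smul, Module.End.one_apply]

theorem irr_mul_of_eq_degree [Finite G] {ψ : G → ℂ} (hψ : Cfsg.IsCharacter G ψ) {n : G}
    (hn : ψ n = ψ 1) (g : G) : ψ (g * n) = ψ g := by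
  obtain ⟨d, ρ, rfl⟩ := hψ
  simp [Representation.character, map_mul, rep_eq_one_of_char_eq ρ hn]

/-! ### The structure of the support -/

/-- `χ` is nonzero exactly at `1` and on the class of `x ≠ 1`, and `#G > 2`. -/
structure IsTwoClass (χ : Cfsg.IrrCharacter G) (x : G) : Prop where
  two_lt : 2 < Nat.card G
  ne_one : x ≠ 1
  supp : ∀ g, (χ : G → ℂ) g ≠ 0 ↔ g = 1 ∨ IsConj x g

theorem exists_isTwoClass (hG : 2 < Nat.card G) (χ : Cfsg.IrrCharacter G)
    (hχ : Nat.card {C : ConjClasses G // ∃ g ∈ C.carrier, (χ : G → ℂ) g ≠ 0} = 2) :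
    ∃ x, IsTwoClass χ x := by
  haveI : Finite G := Nat.finite_of_card_ne_zero (by omega)
  have hcf := CfsgLib.Characters.isClassFunction_of_isIrr χ.2
  set S := {C : ConjClasses G // ∃ g ∈ C.carrier, (χ : G → ℂ) g ≠ 0}
  have h1 : ∃ g ∈ (ConjClasses.mk (1 : G)).carrier, (χ : G → ℂ) g ≠ 0 :=
    ⟨1, ConjClasses.mem_carrier_mk, CfsgLib.Characters.irr_one_ne_zero χ.2⟩
  obtain ⟨a, b, hab, huniv⟩ := Nat.card_eq_two_iff.1 hχ
  obtain ⟨D, hD, hall⟩ : ∃ D : S, D.1 ≠ ConjClasses.mk 1 ∧
      ∀ C : S, C.1 = ConjClasses.mk 1 ∨ C = D := by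
    have hmem : ∀ C : S, C = a ∨ C = b := fun C => by
      have : C ∈ ({a, b} : Set S) := huniv ▸ Set.mem_univ C
      simpa using this
    rcases hmem ⟨_, h1⟩ with h | h
    · refine ⟨b, fun hb => hab (h ▸ Subtype.ext hb.symm), fun C => ?_⟩
      exact (hmem C).imp (fun hC => by rw [hC, ← h]) id
    · refine ⟨a, fun ha => hab (h ▸ Subtype.ext ha), fun C => ?_⟩
      exact (hmem C).symm.imp (fun hC => by rw [hC, ← h]) id
  obtain ⟨x, hx, hx0⟩ := D.2
  rw [ConjClasses.mem_carrier_iff_mk_eq] at hx
  refine ⟨x, ⟨hG, fun hx1 => hD (by rw [← hx, hx1]), fun g => ⟨fun hg => ?_, ?_⟩⟩⟩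
  · rcases hall ⟨ConjClasses.mk g, g, ConjClasses.mem_carrier_mk, hg⟩ with h | h
    · exact Or.inl (isConj_one_right.1 (ConjClasses.mk_eq_mk_iff_isConj.1 h).symm)
    · refine Or.inr (ConjClasses.mk_eq_mk_iff_isConj.1 ?_)
      rw [hx, ← h]
  · rintro (rfl | hg)
    · exact CfsgLib.Characters.irr_one_ne_zero χ.2
    · rwa [← CfsgLib.Characters.classFunction_isConj hcf hg]

namespace IsTwoClass

variable [Finite G] {χ : Cfsg.IrrCharacter G} {x : G}

theorem class_pos (_h : IsTwoClass χ x) : 0 < {g | IsConj x g}.ncard :=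
  (Set.ncard_pos (Set.toFinite _)).2 ⟨x, IsConj.refl x⟩

omit [Finite G] in
theorem eq_zero (h : IsTwoClass χ x) {g : G} (h1 : g ≠ 1) (hg : ¬ IsConj x g) :
    (χ : G → ℂ) g = 0 := by
  by_contra h0
  rcases (h.supp g).1 h0 with e | e
  · exact h1 e
  · exact hg e

/-- Summation of a class function against `χ`. -/
theorem inner_eq (h : IsTwoClass χ x) [Fintype G] {θ : G → ℂ} (hθ : Cfsg.IsClassFunction G θ) :
    (Nat.card G : ℂ) * Cfsg.classInner θ (χ : G → ℂ) =
      θ 1 * conj ((χ : G → ℂ) 1) +
        ({g | IsConj x g}.ncard : ℂ) * (θ x * conj ((χ : G → ℂ) x)) := by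
  classical
  rw [Cfsg.classInner, ← mul_assoc, mul_inv_cancel₀ CfsgLib.Characters.natCard_ne_zero, one_mul,
    ← Finset.add_sum_erase _ _ (Finset.mem_univ (1 : G))]
  congr 1
  rw [← Finset.sum_subset (s₁ := Finset.univ.filter fun g => IsConj x g)]
  · have hcard : ((Finset.univ.filter fun g => IsConj x g).card : ℂ) =
        ({g | IsConj x g}.ncard : ℂ) := by
      rw [Set.ncard_eq_toFinset_card', Set.toFinset_ofPred]
    rw [← hcard, ← nsmul_eq_mul, ← Finset.sum_const]
    refine Finset.sum_congr rfl fun g hg => ?_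
    have hg' := (Finset.mem_filter.1 hg).2
    rw [CfsgLib.Characters.classFunction_isConj hθ hg',
      CfsgLib.Characters.classFunction_isConj
        (CfsgLib.Characters.isClassFunction_of_isIrr χ.2) hg']
  · intro g hg
    refine Finset.mem_erase.2 ⟨?_, Finset.mem_univ g⟩
    rintro rfl
    exact h.ne_one (isConj_one_right.1 (Finset.mem_filter.1 hg).2.symm)
  · intro g hg hg'
    rw [h.eq_zero (Finset.mem_erase.1 hg).1 fun hc => hg' (Finset.mem_filter.2
      ⟨Finset.mem_univ g, hc⟩), map_zero, mul_zero]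

theorem ne_principal (h : IsTwoClass χ x) : (χ : G → ℂ) ≠ fun _ => (1 : ℂ) := by
  intro he
  have hall : ∀ g : G, g = 1 ∨ IsConj x g := fun g => (h.supp g).1 (by rw [he]; exact one_ne_zero)
  have huniv : insert (1 : G) {g | IsConj x g} = Set.univ :=
    Set.eq_univ_of_forall fun g => hall g
  have hcard := congrArg Set.ncard huniv
  rw [Set.ncard_univ, Set.ncard_insert_of_notMem] at hcard
  swap
  · exact fun hc => h.ne_one (isConj_one_right.1 (IsConj.symm hc))
  have hd : {g | IsConj x g}.ncard ∣ Nat.card G := Dvd.intro_left _ (centralizer_card_mul x)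
  rw [← hcard, Nat.dvd_add_right (dvd_refl _), Nat.dvd_one] at hd
  have := h.two_lt
  omega

/-- The numerical data of a two-class character. -/
theorem exists_params (h : IsTwoClass χ x) :
    ∃ m : ℕ, 0 < m ∧ (χ : G → ℂ) x = -(m : ℂ) ∧
      (χ : G → ℂ) 1 = ((m * {g | IsConj x g}.ncard : ℕ) : ℂ) ∧
      Nat.card G = m ^ 2 * ({g | IsConj x g}.ncard * ({g | IsConj x g}.ncard + 1)) ∧
      Nat.card (Subgroup.centralizer ({x} : Set G)) = m ^ 2 * ({g | IsConj x g}.ncard + 1) := by
  classical
  haveI := Fintype.ofFinite G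
  have hc := h.class_pos
  have hcent := centralizer_card_mul x
  obtain ⟨n, hn, hn1⟩ := CfsgLib.Characters.exists_degree_pos χ.2
  have h0 := h.inner_eq (θ := fun _ => (1 : ℂ)) (fun _ _ => rfl)
  rw [CfsgLib.Characters.classInner_isIrr_ne isIrr_one χ.2 h.ne_principal.symm, mul_zero,
    hn1, Complex.conj_natCast, one_mul, one_mul] at h0
  have hself := h.inner_eq (CfsgLib.Characters.isClassFunction_of_isIrr χ.2)
  rw [CfsgLib.Characters.classInner_isIrr_self χ.2, mul_one, hn1, Complex.conj_natCast] at hself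
  generalize {g | IsConj x g}.ncard = c at hc hcent h0 hself ⊢
  have hc0 : (c : ℂ) ≠ 0 := Nat.cast_ne_zero.2 hc.ne'
  have hx : conj ((χ : G → ℂ) x) = -((n : ℂ) / c) := by
    field_simp
    linear_combination -h0
  have hx' : (χ : G → ℂ) x = -((n : ℂ) / c) := by
    have := congrArg conj hx
    rwa [Complex.conj_conj, map_neg, map_div₀, Complex.conj_natCast, Complex.conj_natCast] at this
  have hint := CfsgLib.Characters.character_isIntegral
    (CfsgLib.Characters.isCharacter_of_isIrr χ.2) x
  rw [hx'] at hint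
  have hdvd : c ∣ n := by
    have hi : IsIntegral ℤ ((n : ℚ) / c) := by
      have h' : IsIntegral ℤ (algebraMap ℚ ℂ ((n : ℚ) / c)) := by
        have he : algebraMap ℚ ℂ ((n : ℚ) / c) = -(-((n : ℂ) / c)) := by simp
        rw [he]; exact hint.neg
      exact (isIntegral_algebraMap_iff (algebraMap ℚ ℂ).injective).1 h'
    obtain ⟨z, hz⟩ := IsIntegrallyClosed.isIntegral_iff.1 hi
    rw [eq_div_iff (Nat.cast_ne_zero.2 hc.ne')] at hz
    rw [algebraMap_int_eq, eq_intCast] at hz
    have hz' : z * (c : ℤ) = (n : ℤ) := by exact_mod_cast hz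
    exact Int.natCast_dvd_natCast.1 (Dvd.intro_left _ hz')
  obtain ⟨m, rfl⟩ := hdvd
  have hm : 0 < m := Nat.pos_of_mul_pos_left hn
  have hxm : (χ : G → ℂ) x = -(m : ℂ) := by
    rw [hx']; push_cast; field_simp
  rw [hxm, map_neg, Complex.conj_natCast] at hself
  have hG : Nat.card G = m ^ 2 * (c * (c + 1)) := by
    have : (Nat.card G : ℂ) = ((m ^ 2 * (c * (c + 1)) : ℕ) : ℂ) := by
      rw [hself]; push_cast; ring
    exact_mod_cast this
  refine ⟨m, hm, hxm, by rw [hn1, Nat.mul_comm], hG, ?_⟩
  refine Nat.eq_of_mul_eq_mul_right hc (hcent.trans (hG.trans ?_))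
  ring

/-- All other irreducible characters have `x` in their kernel. -/
theorem other_eq_degree (h : IsTwoClass χ x) {ψ : Cfsg.IrrCharacter G} (hψ : ψ ≠ χ) :
    (ψ : G → ℂ) x = (ψ : G → ℂ) 1 := by
  classical
  haveI := Fintype.ofFinite G
  obtain ⟨m, hm, hxm, hone, -, -⟩ := h.exists_params
  have h0 := h.inner_eq (CfsgLib.Characters.isClassFunction_of_isIrr ψ.2)
  rw [CfsgLib.Characters.classInner_irr, if_neg hψ, mul_zero, hxm, hone, map_neg,
    Complex.conj_natCast, Complex.conj_natCast] at h0
  push_cast at h0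
  have hne : (({g | IsConj x g}.ncard : ℕ) : ℂ) * (m : ℂ) ≠ 0 :=
    mul_ne_zero (Nat.cast_ne_zero.2 h.class_pos.ne') (Nat.cast_ne_zero.2 hm.ne')
  refine mul_left_cancel₀ hne ?_
  linear_combination h0

theorem faithful (h : IsTwoClass χ x) {g : G} (hg : (χ : G → ℂ) g = (χ : G → ℂ) 1) : g = 1 := by
  by_contra h1
  obtain ⟨m, hm, hxm, hone, -, -⟩ := h.exists_params
  rcases (h.supp g).1 (by rw [hg]; exact CfsgLib.Characters.irr_one_ne_zero χ.2) with e | e
  · exact h1 e
  · rw [← CfsgLib.Characters.classFunction_isConj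
      (CfsgLib.Characters.isClassFunction_of_isIrr χ.2) e, hxm, hone] at hg
    have := congrArg Complex.re hg
    simp only [Complex.neg_re, Complex.natCast_re] at this
    have hpos : (0 : ℝ) < (m : ℝ) := by exact_mod_cast hm
    have : (0 : ℝ) ≤ ((m * {g | IsConj x g}.ncard : ℕ) : ℝ) := Nat.cast_nonneg _
    linarith

theorem eq_of_faithful (h : IsTwoClass χ x) {ψ : Cfsg.IrrCharacter G}
    (hψ : ∀ g : G, (ψ : G → ℂ) g = (ψ : G → ℂ) 1 → g = 1) : ψ = χ := by
  by_contra hne
  exact h.ne_one (hψ x (h.other_eq_degree hne))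

end IsTwoClass

end CfsgLib.TwoClasses
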