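import Cfsg.Agent.TwoClasses.Structure

/-!
# Inertia groups of the characters of the support of a two-class character
-/

set_option autoImplicit false
set_option linter.style.haveILetI false
set_option linter.unusedSectionVars false

namespace CfsgLib.TwoClasses.IsTwoClass

open scoped ComplexConjugate

universe u
variable {G : Type u} [Group G] [Finite G] {χ : Cfsg.IrrCharacter G} {x : G} {N : Subgroup G}
  {p : ℕ} [Fact p.Prime] [N.Normal]

theorem inertia_sylow (h : IsTwoClass χ x) (hN : ∀ g : G, g ∈ N ↔ (χ : G → ℂ) g ≠ 0)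
    (hNp : IsPGroup p N) (μ : Cfsg.IrrCharacter N) (hμ : (μ : N → ℂ) ≠ fun _ => (1 : ℂ)) :
    ∃ P : Sylow p G, ∀ g : G, g ∈ (P : Subgroup G) ↔
      ∀ n n' : N, (n' : G) = g * n * g⁻¹ → (μ : N → ℂ) n' = (μ : N → ℂ) n := by
  classical
  haveI := Fintype.ofFinite G
  haveI := Fintype.ofFinite N
  obtain ⟨a, b, ha, hq, hG, hC⟩ := h.exists_params_pow hN hNp
  have hp : p.Prime := Fact.out
  have hμ1 : (μ : N → ℂ) 1 = 1 := irr_degree_one_of_comm (h.comm hN hNp) μ.2
  let e : G → (N ≃* N) := fun g => MulAut.conjNormal g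
  have he : ∀ g (n : N), (e g n : G) = g * n * g⁻¹ := fun g n => MulAut.conjNormal_apply g n
  have hemul : ∀ g k (n : N), e (g * k) n = e g (e k n) := fun g k n => by
    simp [e, map_mul]
  let I : Subgroup G :=
    { carrier := {g | ∀ n, (μ : N → ℂ) (e g n) = (μ : N → ℂ) n}
      mul_mem' := fun {g k} hg hk n => by rw [hemul, hg, hk]
      one_mem' := fun n => by simp [e]
      inv_mem' := fun {g} hg n => by
        have := hg (e g⁻¹ n)
        rw [← hemul, mul_inv_cancel] at this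
        simpa [e] using this.symm }
  have hmemI : ∀ g, g ∈ I ↔ ∀ n, (μ : N → ℂ) (e g n) = (μ : N → ℂ) n := fun g => Iff.rfl
  -- the sum of all conjugates of `μ`
  let Φ : N → ℂ := fun n => ∑ g : G, (μ : N → ℂ) (e g n)
  have hΦinner : Cfsg.classInner Φ (μ : N → ℂ) = (Nat.card I : ℂ) := by
    have h1 : Φ = ∑ g : G, fun n => (μ : N → ℂ) (e g n) := by
      funext n; simp [Φ, Finset.sum_apply]
    rw [h1, CfsgLib.Characters.classInner_sum_left, Nat.card_eq_fintype_card,
      Fintype.card_subtype, ← Finset.sum_boole]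
    refine Finset.sum_congr rfl fun g _ => ?_
    split_ifs with hg
    · rw [show (fun n => (μ : N → ℂ) (e g n)) = (μ : N → ℂ) from funext ((hmemI g).1 hg),
        CfsgLib.Characters.classInner_isIrr_self μ.2]
    · exact CfsgLib.Characters.classInner_isIrr_ne (isIrr_comp_equiv (e g) μ.2) μ.2
        fun heq => hg ((hmemI g).2 (congrFun heq))
  have hconst : ∀ n : N, n ≠ 1 → ∀ g : G, Φ (e g n) = Φ n := by
    intro n _ g
    refine Fintype.sum_bijective (· * g) (Group.mulRight_bijective g) _ _ fun k => ?_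
    rw [hemul]
  have hx : x ∈ N := h.self_mem hN
  set x₀ : N := ⟨x, hx⟩
  have hx₀ : x₀ ≠ 1 := fun he' => h.ne_one (congrArg Subtype.val he')
  have hL : ∀ n : N, n ≠ 1 → Φ n = Φ x₀ := by
    intro n hn
    obtain ⟨g, hg⟩ := isConj_iff.1 (h.isConj_of_mem hN n.2 (fun he' => hn (Subtype.ext he')))
    rw [← hconst x₀ hx₀ g]
    congr 1
    exact Subtype.ext (by rw [he]; exact hg.symm)
  have hsum1 : ∀ ν : N → ℂ, Cfsg.IsIrrCharacter N ν → ν ≠ (fun _ => (1 : ℂ)) →
      ∑ n : N, ν n = 0 := by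
    intro ν hν hν1
    have h0 := CfsgLib.Characters.classInner_isIrr_ne hν isIrr_one hν1
    rw [Cfsg.classInner, inv_mul_eq_iff_eq_mul₀ CfsgLib.Characters.natCard_ne_zero, mul_zero] at h0
    simpa using h0
  have htot : ∑ n : N, Φ n = 0 := by
    simp only [Φ]
    rw [Finset.sum_comm]
    refine Finset.sum_eq_zero fun g _ => ?_
    exact (Equiv.sum_comp (e g).toEquiv (μ : N → ℂ)).trans (hsum1 _ μ.2 hμ)
  have hΦ1 : Φ 1 = (Nat.card G : ℂ) := by simp [Φ, hμ1, Nat.card_eq_fintype_card]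
  have hq1 : ((Nat.card N - 1 : ℕ) : ℂ) = (Nat.card N : ℂ) - 1 := by
    rw [Nat.cast_sub Nat.card_pos]; simp
  have hLval : (Nat.card N - 1 : ℂ) * Φ x₀ = -(Nat.card G : ℂ) := by
    rw [← Finset.add_sum_erase _ _ (Finset.mem_univ (1 : N)), hΦ1,
      Finset.sum_congr rfl fun n hn => hL n (Finset.mem_erase.1 hn).1, Finset.sum_const,
      Finset.card_erase_of_mem (Finset.mem_univ _), Finset.card_univ, ← Nat.card_eq_fintype_card,
      nsmul_eq_mul, hq1] at htot
    linear_combination htot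
  have hμsum : ∑ n ∈ Finset.univ.erase (1 : N), conj ((μ : N → ℂ) n) = -1 := by
    rw [Finset.sum_erase_eq_sub (Finset.mem_univ _), ← map_sum, hsum1 _ μ.2 hμ, hμ1]
    simp
  have hkey : (Nat.card N : ℂ) * (Nat.card I : ℂ) = (Nat.card G : ℂ) - Φ x₀ := by
    rw [← hΦinner, Cfsg.classInner, ← mul_assoc,
      mul_inv_cancel₀ CfsgLib.Characters.natCard_ne_zero, one_mul,
      ← Finset.add_sum_erase _ _ (Finset.mem_univ (1 : N)), hΦ1, hμ1,
      Finset.sum_congr rfl fun n hn => by rw [hL n (Finset.mem_erase.1 hn).1],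
      ← Finset.mul_sum, hμsum]
    simp [sub_eq_add_neg]
  have hcard : Nat.card I = p ^ (2 * b + a) := by
    have hpa : 2 ≤ Nat.card N := by rw [hq]; exact Nat.one_lt_pow ha.ne' hp.one_lt
    have h1 : (Nat.card N : ℂ) * ((Nat.card N - 1 : ℕ) : ℂ) * (Nat.card I : ℂ) =
        (Nat.card N : ℂ) * (Nat.card G : ℂ) := by
      rw [hq1]
      linear_combination ((Nat.card N : ℂ) - 1) * hkey - hLval
    rw [← Nat.cast_mul, ← Nat.cast_mul, ← Nat.cast_mul, Nat.cast_inj, Nat.mul_assoc] at h1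
    have h2 := Nat.eq_of_mul_eq_mul_left Nat.card_pos h1
    rw [hG, hq, Nat.mul_comm (p ^ (2 * b + a))] at h2
    exact Nat.eq_of_mul_eq_mul_left (by omega) h2
  have hidx : ¬ p ∣ I.index := by
    have h2 := Subgroup.card_mul_index I
    rw [hcard, hG] at h2
    rw [Nat.eq_of_mul_eq_mul_left (pow_pos hp.pos _) h2]
    intro hd
    have h3 := Nat.dvd_sub (dvd_pow_self p ha.ne') hd
    rw [Nat.sub_sub_self (Nat.one_le_pow _ _ hp.pos)] at h3
    exact hp.one_lt.ne' (Nat.dvd_one.1 h3)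
  refine ⟨(IsPGroup.of_card hcard).toSylow hidx, fun g => ?_⟩
  refine (hmemI g).trans ⟨fun hg n n' hnn => ?_, fun hg n => hg n _ (he g n)⟩
  rw [show n' = e g n from Subtype.ext (hnn.trans (he g n).symm), hg n]

end CfsgLib.TwoClasses.IsTwoClass
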