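import Cfsg.Agent.TwoClasses.Basic
import Cfsg.Agent.TwoClasses.Tools
import Mathlib.GroupTheory.FiniteAbelian.Duality
import Mathlib.RingTheory.RootsOfUnity.AlgebraicallyClosed
import Mathlib.GroupTheory.NoncommCoprod
import Mathlib.GroupTheory.Sylow
import Mathlib.GroupTheory.PGroup
import Mathlib.GroupTheory.Coset.Card

/-!
# The normal subgroup supporting a two-class character

If the support `N` of a two-class character is a normal `p`-subgroup then its nonidentity elements
form one class, their centralisers are Sylow `p`-subgroups, and for `g ∉ N` the whole coset `g N`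
is in the class of `g`.
-/

set_option autoImplicit false
set_option linter.style.haveILetI false
set_option linter.unusedSectionVars false

namespace CfsgLib.TwoClasses.IsTwoClass

open scoped ComplexConjugate

universe u
variable {G : Type u} [Group G] [Finite G] {χ : Cfsg.IrrCharacter G} {x : G} {N : Subgroup G}

section Support

variable (h : IsTwoClass χ x) (hN : ∀ g : G, g ∈ N ↔ (χ : G → ℂ) g ≠ 0)

include h hN

theorem mem_iff (g : G) : g ∈ N ↔ g = 1 ∨ IsConj x g := (hN g).trans (h.supp g)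

theorem self_mem : x ∈ N := (h.mem_iff hN x).2 (Or.inr (IsConj.refl x))

theorem card_support : Nat.card N = {g | IsConj x g}.ncard + 1 := by
  have he : (N : Set G) = insert 1 {g | IsConj x g} := Set.ext fun g => h.mem_iff hN g
  rw [← SetLike.coe_sort_coe, Nat.card_coe_set_eq, he, Set.ncard_insert_of_notMem]
  exact fun hc => h.ne_one (isConj_one_right.1 (IsConj.symm hc))

theorem isConj_of_mem {y : G} (hy : y ∈ N) (hy1 : y ≠ 1) : IsConj x y :=
  ((h.mem_iff hN y).1 hy).resolve_left hy1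

theorem of_mem {y : G} (hy : y ∈ N) (hy1 : y ≠ 1) : IsTwoClass χ y := by
  have hc := h.isConj_of_mem hN hy hy1
  exact ⟨h.two_lt, hy1, fun g => (h.supp g).trans
    (or_congr Iff.rfl ⟨hc.symm.trans, hc.trans⟩)⟩

/-- The parameters, phrased with the support subgroup. -/
theorem exists_params_support :
    ∃ m : ℕ, 0 < m ∧ (χ : G → ℂ) x = -(m : ℂ) ∧
      (χ : G → ℂ) 1 = ((m * (Nat.card N - 1) : ℕ) : ℂ) ∧
      Nat.card G = m ^ 2 * ((Nat.card N - 1) * Nat.card N) ∧
      ∀ y ∈ N, y ≠ 1 → Nat.card (Subgroup.centralizer ({y} : Set G)) = m ^ 2 * Nat.card N := by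
  obtain ⟨m, hm, hxm, hone, hG, hC⟩ := h.exists_params
  rw [h.card_support hN, Nat.add_sub_cancel]
  refine ⟨m, hm, hxm, hone, hG, fun y hy hy1 => ?_⟩
  have hxy := h.isConj_of_mem hN hy hy1
  have hset : {g | IsConj y g} = {g | IsConj x g} :=
    Set.ext fun g => ⟨hxy.trans, hxy.symm.trans⟩
  have h2 := centralizer_card_mul y
  rw [hset, ← centralizer_card_mul x] at h2
  rw [Nat.eq_of_mul_eq_mul_right h.class_pos h2, hC]

theorem other_ker {ψ : Cfsg.IrrCharacter G} (hψ : ψ ≠ χ) {n : G} (hn : n ∈ N) :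
    (ψ : G → ℂ) n = (ψ : G → ℂ) 1 := by
  rcases (h.mem_iff hN n).1 hn with rfl | hc
  · rfl
  · rw [← CfsgLib.Characters.classFunction_isConj
      (CfsgLib.Characters.isClassFunction_of_isIrr ψ.2) hc, h.other_eq_degree hψ]

/-- Outside `N`, each coset of `N` lies in one conjugacy class. -/
theorem isConj_mul {g n : G} (hg : g ∉ N) (hn : n ∈ N) : IsConj g (g * n) := by
  haveI := Fintype.ofFinite G
  refine CfsgLib.Characters.isConj_of_irr_eq fun ψ => ?_
  by_cases hψ : ψ = χ
  · subst hψ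
    have h1 : ¬ (ψ : G → ℂ) g ≠ 0 := fun hne => hg ((hN g).2 hne)
    have h2 : ¬ (ψ : G → ℂ) (g * n) ≠ 0 := fun hne =>
      hg (by simpa using N.mul_mem ((hN _).2 hne) (N.inv_mem hn))
    rw [not_not] at h1 h2
    rw [h1, h2]
  · rw [irr_mul_of_eq_degree (CfsgLib.Characters.isCharacter_of_isIrr ψ.2)
      (h.other_ker hN hψ hn)]

theorem centralizer_card_quotient [N.Normal] {g : G} (hg : g ∉ N) :
    Nat.card (Subgroup.centralizer ({g} : Set G)) =
      Nat.card (Subgroup.centralizer ({(g : G ⧸ N)} : Set (G ⧸ N))) := by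
  have hpre : {y | IsConj g y} = QuotientGroup.mk ⁻¹' {z : G ⧸ N | IsConj (g : G ⧸ N) z} := by
    ext y
    refine ⟨fun hy => (QuotientGroup.mk' N).map_isConj hy, fun hy => ?_⟩
    obtain ⟨c, hc⟩ := isConj_iff.1 hy
    obtain ⟨c, rfl⟩ := QuotientGroup.mk_surjective c
    rw [← QuotientGroup.mk_inv, ← QuotientGroup.mk_mul, ← QuotientGroup.mk_mul,
      QuotientGroup.eq] at hc
    have hcg : c * g * c⁻¹ ∉ N := fun hmem => hg (by
      simpa [mul_assoc] using (inferInstance : N.Normal).conj_mem _ hmem c⁻¹)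
    have hy' := h.isConj_mul hN hcg hc
    rw [mul_inv_cancel_left] at hy'
    exact (isConj_iff.2 ⟨c, rfl⟩ : IsConj g (c * g * c⁻¹)).trans hy'
  have hcard : {y | IsConj g y}.ncard =
      Nat.card N * {z : G ⧸ N | IsConj (g : G ⧸ N) z}.ncard := by
    rw [hpre, ← Nat.card_coe_set_eq, Nat.card_congr (QuotientGroup.preimageMkEquivSubgroupProdSet N _),
      Nat.card_prod, Nat.card_coe_set_eq]
  have h1 := centralizer_card_mul g
  have h2 := centralizer_card_mul (g : G ⧸ N)
  have h3 := Subgroup.card_eq_card_quotient_mul_card_subgroup N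
  rw [hcard, h3, ← h2] at h1
  have hpos : 0 < Nat.card N * {z : G ⧸ N | IsConj (g : G ⧸ N) z}.ncard :=
    Nat.mul_pos Nat.card_pos ((Set.ncard_pos (Set.toFinite _)).2 ⟨_, IsConj.refl _⟩)
  refine Nat.eq_of_mul_eq_mul_right hpos (h1.trans ?_)
  ring

/-- A subgroup centralising `x` and meeting `N` trivially has order dividing `m * #N`. -/
theorem card_dvd_of_le_centralizer {m : ℕ} (hxm : (χ : G → ℂ) x = -(m : ℂ))
    (hone : (χ : G → ℂ) 1 = ((m * (Nat.card N - 1) : ℕ) : ℂ)) (R : Subgroup G)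
    (hR : R ≤ Subgroup.centralizer ({x} : Set G)) (hdisj : R ⊓ N = ⊥) :
    Nat.card R ∣ m * Nat.card N := by
  classical
  haveI := Fintype.ofFinite G
  have hXN : Subgroup.zpowers x ≤ N := Subgroup.zpowers_le.2 (h.self_mem hN)
  have hcomm : ∀ (a : Subgroup.zpowers x) (r : R), Commute (a : G) (r : G) := by
    rintro ⟨_, j, rfl⟩ r
    have : Commute (r : G) x := Subgroup.mem_centralizer_singleton_iff.1 (hR r.2)
    exact this.symm.zpow_left j
  let f : Subgroup.zpowers x × R →* G :=
    MonoidHom.noncommCoprod (Subgroup.zpowers x).subtype R.subtype hcomm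
  have hθ : Cfsg.IsCharacter (Subgroup.zpowers x × R) (fun y => (χ : G → ℂ) (f y)) :=
    CfsgLib.Characters.isCharacter_comp f (CfsgLib.Characters.isCharacter_of_isIrr χ.2)
  let x' : Subgroup.zpowers x := ⟨x, Subgroup.mem_zpowers x⟩
  have hx' : x' ≠ 1 := fun he => h.ne_one (congrArg Subtype.val he)
  letI : CommGroup (Subgroup.zpowers x) := { (inferInstance : Group (Subgroup.zpowers x)) with mul_comm := mul_comm' }
  obtain ⟨φ, hφ⟩ := CommGroup.exists_apply_ne_one_of_hasEnoughRootsOfUnity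
    (Subgroup.zpowers x) ℂ hx'
  have hlam := isIrr_linear (φ.comp (MonoidHom.fst (Subgroup.zpowers x) R))
  obtain ⟨j, hj⟩ := CfsgLib.Characters.classInner_character_irr hθ hlam
  have hval : ∀ (a : Subgroup.zpowers x) (r : R), (χ : G → ℂ) (f (a, r)) =
      if r = 1 then (if a = 1 then (χ : G → ℂ) 1 else -(m : ℂ)) else 0 := by
    intro a r
    have hf : f (a, r) = (a : G) * r := rfl
    split_ifs with hr ha
    · subst hr ha; simp [hf]
    · subst hr
      rw [hf, Subgroup.coe_one, mul_one, ← hxm, CfsgLib.Characters.classFunction_isConj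
        (CfsgLib.Characters.isClassFunction_of_isIrr χ.2)
        (h.isConj_of_mem hN (hXN a.2) (fun he => ha (Subtype.ext he)))]
    · by_contra hne
      have hmem : (a : G) * r ∈ N := (hN _).2 (by rwa [hf] at hne)
      have : (r : G) ∈ R ⊓ N :=
        ⟨r.2, by simpa using N.mul_mem (N.inv_mem (hXN a.2)) hmem⟩
      rw [hdisj, Subgroup.mem_bot] at this
      exact hr (Subtype.ext this)
  have hsum : ∑ a : Subgroup.zpowers x, conj ((φ a : ℂˣ) : ℂ) = 0 := by
    have h0 := sum_hom_units_eq_zero (R := ℂ)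
      ((Units.coeHom ℂ).comp φ) (fun he => hφ (Units.ext (DFunLike.congr_fun he x')))
    rw [← map_sum]
    simp only [MonoidHom.coe_comp, Function.comp_apply, Units.coeHom_apply] at h0
    rw [h0, map_zero]
  rw [Cfsg.classInner, inv_mul_eq_iff_eq_mul₀ CfsgLib.Characters.natCard_ne_zero,
    Fintype.sum_prod_type] at hj
  have hinner : ∀ a : Subgroup.zpowers x, (∑ r : R, (χ : G → ℂ) (f (a, r)) *
      conj (((φ.comp (MonoidHom.fst (Subgroup.zpowers x) R)) (a, r) : ℂˣ) : ℂ)) =
      (if a = 1 then (χ : G → ℂ) 1 + m else 0) - (m : ℂ) * conj ((φ a : ℂˣ) : ℂ) := by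
    intro a
    simp only [hval, MonoidHom.coe_comp, Function.comp_apply, MonoidHom.coe_fst, ite_mul, zero_mul,
      Finset.sum_ite_eq', Finset.mem_univ, if_true]
    split_ifs with ha
    · subst ha; simp
    · ring
  rw [Finset.sum_congr rfl fun a _ => hinner a, Finset.sum_sub_distrib, ← Finset.mul_sum, hsum,
    mul_zero, sub_zero, Finset.sum_ite_eq', if_pos (Finset.mem_univ _), hone, Nat.card_prod] at hj
  have hj' : m * (Nat.card N - 1) + m =
      Nat.card (Subgroup.zpowers x) * Nat.card R * j := by exact_mod_cast hj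
  rw [← Nat.mul_succ, Nat.succ_eq_add_one, Nat.sub_add_cancel Nat.card_pos] at hj'
  rw [hj']
  exact Dvd.dvd.mul_right (Dvd.intro_left _ rfl) j

variable {p : ℕ} [Fact p.Prime]

theorem exists_card_pow (hNp : IsPGroup p N) :
    ∃ a : ℕ, 0 < a ∧ Nat.card N = p ^ a := by
  obtain ⟨a, ha⟩ := IsPGroup.iff_card.1 hNp
  refine ⟨a, Nat.pos_of_ne_zero fun h0 => ?_, ha⟩
  have := h.card_support hN
  have := h.class_pos
  rw [h0, pow_zero] at ha
  omega

/-- Only `p` divides `m`. -/
theorem exists_params_pow (hNp : IsPGroup p N) :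
    ∃ a b : ℕ, 0 < a ∧ Nat.card N = p ^ a ∧
      Nat.card G = p ^ (2 * b + a) * (p ^ a - 1) ∧
      ∀ y ∈ N, y ≠ 1 → Nat.card (Subgroup.centralizer ({y} : Set G)) = p ^ (2 * b + a) := by
  obtain ⟨m, hm, hxm, hone, hG, hC⟩ := h.exists_params_support hN
  obtain ⟨a, ha, hq⟩ := h.exists_card_pow hN hNp
  have hp : p.Prime := Fact.out
  have key : ∀ r : ℕ, r.Prime → r ∣ m → r = p := by
    intro r hr hrm
    by_contra hne
    haveI := Fact.mk hr
    let C := Subgroup.centralizer ({x} : Set G)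
    let P : Sylow r C := default
    let R : Subgroup G := (P : Subgroup C).map C.subtype
    have hfac : (Nat.card N).factorization r = 0 :=
      Nat.factorization_eq_zero_of_not_dvd (by
        rw [hq]; exact fun hd => hne ((Nat.prime_dvd_prime_iff_eq hr hp).1 (hr.dvd_of_dvd_pow hd)))
    have hRcard : Nat.card R = r ^ (2 * m.factorization r) := by
      rw [Subgroup.card_map_of_injective C.subtype_injective, P.card_eq_multiplicity,
        hC x (h.self_mem hN) h.ne_one,
        Nat.factorization_mul (pow_ne_zero _ hm.ne') Nat.card_pos.ne', Finsupp.add_apply, hfac,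
        add_zero, Nat.factorization_pow, Finsupp.smul_apply, smul_eq_mul]
    have hcop : Nat.Coprime (Nat.card R) (Nat.card N) := by
      rw [hRcard, hq]
      exact Nat.Coprime.pow _ _ ((Nat.coprime_primes hr hp).2 hne)
    have hdisj : R ⊓ N = ⊥ := disjoint_iff.1 (Subgroup.disjoint_of_coprime_natCard hcop)
    have hd := hcop.dvd_of_dvd_mul_right
      (h.card_dvd_of_le_centralizer hN hxm hone R (Subgroup.map_subtype_le _) hdisj)
    rw [hRcard] at hd
    have hle := (Nat.Prime.pow_dvd_iff_le_factorization hr hm.ne').1 hd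
    have := hr.factorization_pos_of_dvd hm.ne' hrm
    omega
  obtain ⟨b, rfl⟩ : ∃ b, m = p ^ b :=
    ⟨_, Nat.eq_prime_pow_of_unique_prime_dvd hm.ne' fun {d} hd hdm => key d hd hdm⟩
  refine ⟨a, b, ha, hq, ?_, fun y hy hy1 => ?_⟩
  · rw [hG, hq, ← pow_mul, pow_add, Nat.mul_comm b 2]; ring
  · rw [hC y hy hy1, hq, ← pow_mul, pow_add, Nat.mul_comm b 2]

/-- The centraliser of a nonidentity element of `N` is a Sylow subgroup. -/
theorem centralizer_sylow (hNp : IsPGroup p N) {y : G} (hy : y ∈ N) (hy1 : y ≠ 1) :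
    ∃ P : Sylow p G, Subgroup.centralizer ({y} : Set G) = P := by
  obtain ⟨a, b, ha, hq, hG, hC⟩ := h.exists_params_pow hN hNp
  have hp : p.Prime := Fact.out
  have hidx : ¬ p ∣ (Subgroup.centralizer ({y} : Set G)).index := by
    have h2 := Subgroup.card_mul_index (Subgroup.centralizer ({y} : Set G))
    rw [hC y hy hy1, hG] at h2
    rw [Nat.eq_of_mul_eq_mul_left (pow_pos hp.pos _) h2]
    intro hd
    have h1 : p ∣ p ^ a := dvd_pow_self p ha.ne'
    have h3 := Nat.dvd_sub h1 hd
    rw [Nat.sub_sub_self (Nat.one_le_pow _ _ hp.pos)] at h3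
    exact hp.one_lt.ne' (Nat.dvd_one.1 h3)
  exact ⟨(IsPGroup.of_card (hC y hy hy1)).toSylow hidx, rfl⟩

theorem comm (hNp : IsPGroup p N) [N.Normal] : ∀ a b : N, a * b = b * a := by
  obtain ⟨a, ha, hq⟩ := h.exists_card_pow hN hNp
  haveI : Nontrivial N := by
    rw [← Finite.one_lt_card_iff_nontrivial, hq]
    exact Nat.one_lt_pow ha.ne' (Fact.out : p.Prime).one_lt
  haveI := hNp.center_nontrivial
  obtain ⟨z, hz⟩ := exists_ne (1 : Subgroup.center N)
  intro c d
  by_cases hc : (c : G) = 1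
  · rw [show c = 1 from Subtype.ext hc, one_mul, mul_one]
  have hzG : ((z : N) : G) ≠ 1 := fun he => hz (Subtype.ext (Subtype.ext he))
  obtain ⟨g, hg⟩ := isConj_iff.1 ((h.isConj_of_mem hN (z : N).2 hzG).symm.trans
    (h.isConj_of_mem hN c.2 hc))
  let d' : N := ⟨g⁻¹ * d * g⁻¹⁻¹, (inferInstance : N.Normal).conj_mem _ d.2 _⟩
  have hz' : d' * (z : N) = (z : N) * d' := Subgroup.mem_center_iff.1 z.2 d'
  apply Subtype.ext
  have h1 : (g⁻¹ * d * g) * ((z : N) : G) = ((z : N) : G) * (g⁻¹ * d * g) := by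
    simpa [d'] using congrArg Subtype.val hz'
  simp only [Subgroup.coe_mul, ← hg]
  calc g * ((z : N) : G) * g⁻¹ * d = g * (((z : N) : G) * (g⁻¹ * d * g)) * g⁻¹ := by group
    _ = g * ((g⁻¹ * d * g) * ((z : N) : G)) * g⁻¹ := by rw [h1]
    _ = d * (g * ((z : N) : G) * g⁻¹) := by group

end Support

end CfsgLib.TwoClasses.IsTwoClass
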