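import Cfsg.Agent.TwoClasses.Structure
import Cfsg.Agent.FrobComp.Malnormal
import Cfsg.Agent.PLocal.Cores
import Cfsg.Agent.Small.BaerSuzuki
import Mathlib.GroupTheory.SchurZassenhaus

/-!
# Two-class characters whose support is the whole `p`-core

If the support `N` of a two-class character is `O_p(G)` then `#G = q (q - 1)` with `q = #N`, and a
complement of `N` is a Frobenius complement with kernel `N`.
-/

set_option autoImplicit false
set_option linter.style.haveILetI false
set_option linter.unusedSectionVars false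

namespace CfsgLib.TwoClasses

universe u
variable {G : Type u} [Group G] [Finite G]

/-- For an abelian normal subgroup with no nontrivial element commuting with `g`, every element is
a commutator with `g`. -/
theorem exists_commutator_eq {N : Subgroup G} [hN : N.Normal] (hcomm : ∀ a b : N, a * b = b * a)
    {g : G} (hfix : ∀ n ∈ N, g * n = n * g → n = 1) {n : G} (hn : n ∈ N) :
    ∃ m ∈ N, g⁻¹ * m * g * m⁻¹ = n := by
  let f : N → N := fun m =>
    ⟨g⁻¹ * m * g * (m : G)⁻¹, N.mul_mem (by simpa using hN.conj_mem m m.2 g⁻¹) (N.inv_mem m.2)⟩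
  have hinj : Function.Injective f := by
    intro a b hab
    have h1 : g⁻¹ * a * g * (a : G)⁻¹ = g⁻¹ * b * g * (b : G)⁻¹ := congrArg Subtype.val hab
    have hc : ((b : G))⁻¹ * a = a * (b : G)⁻¹ := congrArg Subtype.val (hcomm b⁻¹ a)
    have h2 : g⁻¹ * ((b : G)⁻¹ * a) * g = (b : G)⁻¹ * a := by
      calc g⁻¹ * ((b : G)⁻¹ * a) * g = (g⁻¹ * b * g)⁻¹ * ((g⁻¹ * a * g * (a : G)⁻¹) * a) := by group
        _ = (g⁻¹ * b * g)⁻¹ * ((g⁻¹ * b * g * (b : G)⁻¹) * a) := by rw [h1]
        _ = (b : G)⁻¹ * a := by group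
    have h3 := hfix _ (N.mul_mem (N.inv_mem b.2) a.2) (by
      conv_lhs => rw [← h2]
      group)
    exact Subtype.ext (inv_mul_eq_one.1 h3).symm
  obtain ⟨m, hm⟩ := (Finite.injective_iff_surjective.1 hinj) ⟨n, hn⟩
  exact ⟨m, m.2, congrArg Subtype.val hm⟩

/-- A normal elementary abelian `2`-subgroup containing all involutions, whose quotient has trivial
`2`-core, and centralised by no element of odd prime order, has odd index. -/
theorem odd_index_of_no_involution {N : Subgroup G} [N.Normal] (_hN2 : IsPGroup 2 N)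
    (hcomm : ∀ a b : N, a * b = b * a) (hexp : ∀ n ∈ N, n * n = 1)
    (hinv : ∀ g : G, g * g = 1 → g ∈ N) (hcore : Cfsg.pCore 2 (G ⧸ N) = ⊥)
    (hcent : ∀ n ∈ N, n ≠ 1 → IsPGroup 2 (Subgroup.centralizer ({n} : Set G))) :
    ¬ 2 ∣ N.index := by
  intro heven
  obtain ⟨S, hS⟩ := exists_prime_orderOf_dvd_card' (G := G ⧸ N) 2 heven
  have hS1 : S ≠ 1 := CfsgLib.Small.ne_one_of_orderOf_two hS
  obtain ⟨g, hg⟩ : ∃ g : G ⧸ N,
      ¬ IsPGroup 2 (Subgroup.closure ({S, g * S * g⁻¹} : Set (G ⧸ N))) := by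
    by_contra hne
    obtain ⟨M, hM, hMp, hSM⟩ := CfsgLib.Small.baerSuzuki_elem (p := 2) S
      (fun g => by_contra fun h => hne ⟨g, h⟩)
    have := CfsgLib.PLocal.le_pCore (p := 2) hMp hSM
    rw [hcore, Subgroup.mem_bot] at this
    exact hS1 this
  set T := g * S * g⁻¹ with hTdef
  have hT : orderOf T = 2 := (CfsgLib.Small.orderOf_conj_eq g S).trans hS
  have hST : S ≠ T := by
    intro he
    refine hg ?_
    rw [← he, Set.pair_eq_singleton, ← Subgroup.zpowers_eq_closure]
    refine IsPGroup.of_card (n := 1) ?_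
    rw [Nat.card_zpowers, hS, pow_one]
  obtain ⟨r, hr, hr2, hrd⟩ : ∃ r : ℕ, r.Prime ∧ r ≠ 2 ∧ r ∣ orderOf (S * T) := by
    by_contra hne
    refine hg ?_
    have hpow : orderOf (S * T) = 2 ^ (orderOf (S * T)).primeFactorsList.length :=
      Nat.eq_prime_pow_of_unique_prime_dvd (orderOf_pos _).ne' fun {d} hd hdd =>
        by_contra fun h2 => hne ⟨d, hd, h2, hdd⟩
    refine IsPGroup.of_card (n := (orderOf (S * T)).primeFactorsList.length + 1) ?_
    rw [CfsgLib.Small.card_closure_pair_invol hS hT hST, pow_succ', ← hpow]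
  set U := (S * T) ^ (orderOf (S * T) / r)
  have hU : orderOf U = r := orderOf_pow_orderOf_div (orderOf_pos _).ne' hrd
  have hSU : S * U * S⁻¹ = U⁻¹ :=
    CfsgLib.Small.invol_conj_pow (CfsgLib.Small.invol_conj_mul hS hT) _
  -- lift to an element `u` of order `r`
  obtain ⟨w, hw⟩ := QuotientGroup.mk_surjective U
  have hwr : w ^ r ∈ N := by
    rw [← QuotientGroup.eq_one_iff, QuotientGroup.mk_pow, hw, ← hU, pow_orderOf_eq_one]
  set u := w ^ 2 with hu
  have hur : u ^ r = 1 := by
    rw [hu, ← pow_mul, mul_comm, pow_mul, sq]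
    exact hexp _ hwr
  have huU : (u : G ⧸ N) = U ^ 2 := by rw [hu, QuotientGroup.mk_pow, hw]
  have hu1 : (u : G ⧸ N) ≠ 1 := by
    rw [huU]
    intro h
    have h' := orderOf_dvd_of_pow_eq_one h
    rw [hU, Nat.prime_dvd_prime_iff_eq hr Nat.prime_two] at h'
    exact hr2 h'
  have hu' : orderOf u = r := by
    haveI := Fact.mk hr
    exact orderOf_eq_prime hur fun h => hu1 (by rw [h, QuotientGroup.mk_one])
  have hfix : ∀ n ∈ N, u * n = n * u → n = 1 := by
    intro n hn hun
    by_contra hn1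
    obtain ⟨k, hk⟩ := hcent n hn hn1 ⟨u, Subgroup.mem_centralizer_singleton_iff.2 hun⟩
    have hd : r ∣ 2 ^ k := hu' ▸ orderOf_dvd_of_pow_eq_one (congrArg Subtype.val hk)
    exact hr2 ((Nat.prime_dvd_prime_iff_eq hr Nat.prime_two).1 (hr.dvd_of_dvd_pow hd))
  -- lift the inverting involution
  obtain ⟨s, hs⟩ := QuotientGroup.mk_surjective S
  have hmem : u⁻¹ * (s⁻¹ * u⁻¹ * s) ∈ N := by
    rw [← QuotientGroup.eq_one_iff, QuotientGroup.mk_mul, QuotientGroup.mk_mul,
      QuotientGroup.mk_mul, QuotientGroup.mk_inv, QuotientGroup.mk_inv, huU, hs]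
    have h2 : S * U ^ 2 * S⁻¹ = (U ^ 2)⁻¹ := CfsgLib.Small.invol_conj_pow hSU 2
    rw [show S⁻¹ * (U ^ 2)⁻¹ * S = U ^ 2 by rw [← h2]; group, inv_mul_cancel]
  obtain ⟨m, hm, hme⟩ := exists_commutator_eq hcomm hfix hmem
  set s' := s * m
  have hs'u : s' * u * s'⁻¹ = u⁻¹ := by
    calc s' * u * s'⁻¹ = s * (u * (u⁻¹ * m * u * m⁻¹)) * s⁻¹ := by simp only [s']; group
      _ = s * (u * (u⁻¹ * (s⁻¹ * u⁻¹ * s))) * s⁻¹ := by rw [hme]
      _ = u⁻¹ := by group
  have hs'S : (s' : G ⧸ N) = S := by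
    rw [QuotientGroup.mk_mul, hs, (QuotientGroup.eq_one_iff m).2 hm, mul_one]
  have hsq : s' * s' ∈ N := by
    rw [← QuotientGroup.eq_one_iff, QuotientGroup.mk_mul, hs'S,
      CfsgLib.Small.mul_self_of_orderOf_two hS]
  have hc : u * (s' * s') = (s' * s') * u := by
    have hs'u' : s' * u⁻¹ * s'⁻¹ = u := by
      rw [show s' * u⁻¹ * s'⁻¹ = (s' * u * s'⁻¹)⁻¹ by group, hs'u, inv_inv]
    calc u * (s' * s') = (s' * (s' * u * s'⁻¹) * s'⁻¹) * (s' * s') := by rw [hs'u, hs'u']
      _ = (s' * s') * u := by group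
  have := hinv s' (hfix _ hsq hc)
  exact hS1 (hs'S ▸ (QuotientGroup.eq_one_iff s').2 this)

namespace IsTwoClass

variable {χ : Cfsg.IrrCharacter G} {x : G} {N : Subgroup G} [N.Normal] {p : ℕ} [Fact p.Prime]

theorem exponent (h : IsTwoClass χ x) (hN : ∀ g : G, g ∈ N ↔ (χ : G → ℂ) g ≠ 0)
    (hNp : IsPGroup p N) {n : G} (hn : n ∈ N) : n ^ p = 1 := by
  obtain ⟨a, ha, hq⟩ := h.exists_card_pow hN hNp
  obtain ⟨z, hz⟩ := exists_prime_orderOf_dvd_card' (G := N) p (hq ▸ dvd_pow_self p ha.ne')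
  by_cases hn1 : n = 1
  · rw [hn1, one_pow]
  have hzG : (z : G) ≠ 1 := fun he => (Fact.out : p.Prime).ne_one (by
    rw [← hz, show z = 1 from Subtype.ext he, orderOf_one])
  obtain ⟨c, hc⟩ := isConj_iff.1 ((h.isConj_of_mem hN z.2 hzG).symm.trans
    (h.isConj_of_mem hN hn hn1))
  rw [← hc, conj_pow]
  have : (z : G) ^ p = 1 := by
    rw [← Subgroup.coe_pow, ← hz, pow_orderOf_eq_one, Subgroup.coe_one]
  rw [this, mul_one, mul_inv_cancel]

theorem centralizer_isPGroup (h : IsTwoClass χ x) (hN : ∀ g : G, g ∈ N ↔ (χ : G → ℂ) g ≠ 0)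
    (hNp : IsPGroup p N) {n : G} (hn : n ∈ N) (hn1 : n ≠ 1) :
    IsPGroup p (Subgroup.centralizer ({n} : Set G)) := by
  obtain ⟨a, b, -, -, -, hC⟩ := h.exists_params_pow hN hNp
  exact IsPGroup.of_card (hC n hn hn1)

/-- If the support is the whole `p`-core, nothing outside it centralises it. -/
theorem centralizer_le_of_eq_pCore (h : IsTwoClass χ x)
    (hN : ∀ g : G, g ∈ N ↔ (χ : G → ℂ) g ≠ 0) (hNp : IsPGroup p N) (hO : N = Cfsg.pCore p G)
    {g : G} (hg : ∀ n ∈ N, g * n = n * g) : g ∈ N := by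
  have hmem : g ∈ Subgroup.centralizer (N : Set G) :=
    Subgroup.mem_centralizer_iff.2 fun n hn => (hg n hn).symm
  have hle : Subgroup.centralizer (N : Set G) ≤ Subgroup.centralizer ({x} : Set G) :=
    Subgroup.centralizer_le (Set.singleton_subset_iff.2 (h.self_mem hN))
  have hp' := (h.centralizer_isPGroup hN hNp (h.self_mem hN) h.ne_one).to_le hle
  rw [hO]
  exact CfsgLib.PLocal.le_pCore hp' hmem

/-- If the support is the whole `p`-core, centralisers of its nonidentity elements equal it and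
`#G = q (q - 1)`. -/
theorem regular_of_eq_pCore (h : IsTwoClass χ x) (hN : ∀ g : G, g ∈ N ↔ (χ : G → ℂ) g ≠ 0)
    (hNp : IsPGroup p N) (hO : N = Cfsg.pCore p G) :
    Nat.card G = Nat.card N * (Nat.card N - 1) ∧
      ∀ n ∈ N, n ≠ 1 → Subgroup.centralizer ({n} : Set G) = N := by
  obtain ⟨a, b, ha, hq, hG, hC⟩ := h.exists_params_pow hN hNp
  have hp : p.Prime := Fact.out
  have hcomm := h.comm hN hNp
  have hNle : ∀ n ∈ N, N ≤ Subgroup.centralizer ({n} : Set G) := fun n hn y hy =>
    Subgroup.mem_centralizer_singleton_iff.2 (congrArg Subtype.val (hcomm ⟨y, hy⟩ ⟨n, hn⟩))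
  suffices hb : b = 0 by
    subst hb
    refine ⟨by rw [hG, hq, Nat.mul_zero, Nat.zero_add], fun n hn hn1 => ?_⟩
    exact (Subgroup.eq_of_le_of_card_ge (hNle n hn)
      (by rw [hC n hn hn1, hq, Nat.mul_zero, Nat.zero_add])).symm
  by_contra hb
  rcases hp.eq_two_or_odd' with rfl | hodd
  · have hexp : ∀ n ∈ N, n * n = 1 := fun n hn => by rw [← sq]; exact h.exponent hN hNp hn
    refine odd_index_of_no_involution hNp hcomm hexp (fun g hg => ?_) ?_
      (fun n hn hn1 => h.centralizer_isPGroup hN hNp hn hn1) ?_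
    · by_contra hgN
      refine hgN (h.centralizer_le_of_eq_pCore hN hNp hO fun n hn => ?_)
      obtain ⟨c, hc⟩ := isConj_iff.1 (h.isConj_mul hN hgN hn)
      have hsq : (g * n) * (g * n) = 1 := by
        rw [← hc, show c * g * c⁻¹ * (c * g * c⁻¹) = c * (g * g) * c⁻¹ by group, hg, mul_one,
          mul_inv_cancel]
      calc g * n = (g * n)⁻¹ := eq_inv_of_mul_eq_one_left hsq
        _ = n * g := by
          rw [mul_inv_rev, inv_eq_of_mul_eq_one_left (hexp n hn), inv_eq_of_mul_eq_one_left hg]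
    · rw [← CfsgLib.PLocal.map_pCore_quotient_eq N hNp, ← hO, QuotientGroup.map_mk'_self]
    · have h2 := Subgroup.card_mul_index N
      rw [hG, hq, pow_add, Nat.mul_comm (2 ^ (2 * b)), Nat.mul_assoc] at h2
      rw [Nat.eq_of_mul_eq_mul_left (pow_pos Nat.two_pos a) h2]
      exact Dvd.dvd.mul_right (dvd_pow_self 2 (by omega)) _
  · have hoddN : Odd (Nat.card N) := hq ▸ hodd.pow
    haveI : Fact (Nat.Prime 2) := ⟨Nat.prime_two⟩
    have h2G : 2 ∣ Nat.card G := by
      rw [hG]
      exact Dvd.dvd.mul_left (Nat.Odd.sub_odd (hodd.pow) odd_one).two_dvd _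
    obtain ⟨t, ht⟩ := exists_prime_orderOf_dvd_card' 2 h2G
    have htt := CfsgLib.Small.mul_self_of_orderOf_two ht
    have htfix : ∀ n ∈ N, t * n = n * t → n = 1 := by
      intro n hn htn
      by_contra hn1
      obtain ⟨k, hk⟩ := h.centralizer_isPGroup hN hNp hn hn1
        ⟨t, Subgroup.mem_centralizer_singleton_iff.2 htn⟩
      have hd : 2 ∣ p ^ k := ht ▸ orderOf_dvd_of_pow_eq_one (congrArg Subtype.val hk)
      exact absurd (Nat.prime_two.dvd_of_dvd_pow hd) (Nat.two_dvd_ne_zero.2 (Nat.odd_iff.1 hodd))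
    have hinvert : ∀ n ∈ N, t * n * t = n⁻¹ := by
      intro n hn
      have hn' : t * n * t ∈ N := by
        have := (inferInstance : N.Normal).conj_mem n hn t
        rwa [inv_eq_of_mul_eq_one_left htt] at this
      have hc : n * (t * n * t) = (t * n * t) * n :=
        congrArg Subtype.val (hcomm ⟨n, hn⟩ ⟨_, hn'⟩)
      refine eq_inv_of_mul_eq_one_right (htfix _ (N.mul_mem hn hn') ?_)
      calc t * (n * (t * n * t)) = t * n * t * n * t := by group
        _ = (t * n * t * n) * t := rfl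
        _ = (n * (t * n * t)) * t := by rw [hc]
    have hsplit : ∀ g : G, ∃ m ∈ N, t * (m * g) = (m * g) * t := by
      intro g
      have hmem : t * (g * t * g⁻¹) ∈ N := by
        refine h.centralizer_le_of_eq_pCore hN hNp hO fun n hn => ?_
        have hn' : g⁻¹ * n * g ∈ N := by
          simpa using (inferInstance : N.Normal).conj_mem n hn g⁻¹
        have h1 : (g * t * g⁻¹) * n * (g * t * g⁻¹)⁻¹ = n⁻¹ := by
          calc (g * t * g⁻¹) * n * (g * t * g⁻¹)⁻¹ = g * (t * (g⁻¹ * n * g) * t⁻¹) * g⁻¹ := by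
                group
            _ = n⁻¹ := by rw [inv_eq_of_mul_eq_one_left htt, hinvert _ hn']; group
        have h2 : t * n⁻¹ = n * t := by
          rw [← hinvert n hn, ← mul_assoc, ← mul_assoc, htt, one_mul]
        calc t * (g * t * g⁻¹) * n = t * ((g * t * g⁻¹) * n * (g * t * g⁻¹)⁻¹) * (g * t * g⁻¹) := by
              group
          _ = n * (t * (g * t * g⁻¹)) := by rw [h1, h2]; group
      obtain ⟨j, hj⟩ := hoddN
      refine ⟨(t * (g * t * g⁻¹)) ^ (j + 1), N.pow_mem hmem _, ?_⟩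
      set n := t * (g * t * g⁻¹) with hn
      set m := n ^ (j + 1)
      have hm : m * m = n := by
        rw [← pow_add, show j + 1 + (j + 1) = 2 * j + 1 + 1 by omega, pow_succ, ← hj]
        have h1 := congrArg Subtype.val (pow_card_eq_one' (x := (⟨n, hmem⟩ : N)))
        simp only [Subgroup.coe_pow, Subgroup.coe_one] at h1
        rw [h1, one_mul]
      have hgtg : g * t = t * n * g := by
        rw [hn, show t * (t * (g * t * g⁻¹)) * g = (t * t) * (g * t) by group, htt, one_mul]
      have htm : t * m = m⁻¹ * t := by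
        rw [← hinvert m (N.pow_mem hmem _), mul_assoc, htt, mul_one]
      have hmt : m * t = t * m⁻¹ := by
        rw [show t * m⁻¹ = t * (t * m * t) by rw [hinvert m (N.pow_mem hmem _)], ← mul_assoc,
          ← mul_assoc, htt, one_mul]
      calc t * (m * g) = t * m⁻¹ * (m * m) * g := by group
        _ = t * m⁻¹ * n * g := by rw [hm]
        _ = (m * t) * n * g := by rw [hmt]
        _ = m * (g * t) := by rw [hgtg]; group
        _ = (m * g) * t := by group
    -- elements commuting with `t` act without fixed points on `N`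
    have hfpf : ∀ l : G, t * l = l * t → l ≠ 1 → ∀ y ∈ N, l * y = y * l → y = 1 := by
      intro l hl hl1 y hy hly
      have hlN : l ∉ N := fun hlN => hl1 (htfix l hlN hl)
      by_contra hy1
      let f : N → N := fun m => ⟨l⁻¹ * m * l * (m : G)⁻¹,
        N.mul_mem (by simpa using (inferInstance : N.Normal).conj_mem m m.2 l⁻¹)
          (N.inv_mem m.2)⟩
      have hsurj : Function.Surjective f := by
        intro n
        obtain ⟨c, hc⟩ := isConj_iff.1 (h.isConj_mul hN hlN n.2)
        obtain ⟨m, hm, hmc⟩ := hsplit c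
        refine ⟨⟨m⁻¹, N.inv_mem hm⟩, Subtype.ext ?_⟩
        set k := m * c with hk
        have hck : c = m⁻¹ * k := by rw [hk]; group
        have hkl : k * l * k⁻¹ = l := by
          set z := k * l * k⁻¹ with hz
          have hzc : t * z = z * t := by
            have hkc : Commute t k := hmc
            exact ((hkc.mul_right hl).mul_right hkc.inv_right).eq
          have hzN : l⁻¹ * z ∈ N := by
            have h1 : z = m * (l * n) * m⁻¹ := by rw [hz, ← hc, hck]; group
            rw [h1]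
            have : l⁻¹ * (m * (l * n) * m⁻¹) = (l⁻¹ * m * l) * (n : G) * m⁻¹ := by group
            rw [this]
            exact N.mul_mem (N.mul_mem (by
              simpa using (inferInstance : N.Normal).conj_mem m hm l⁻¹) n.2) (N.inv_mem hm)
          have hzc' : Commute t (l⁻¹ * z) := (Commute.inv_right hl).mul_right hzc
          exact (inv_mul_eq_one.1 (htfix _ hzN hzc'.eq)).symm
        show l⁻¹ * m⁻¹ * l * m⁻¹⁻¹ = n
        calc l⁻¹ * m⁻¹ * l * m⁻¹⁻¹ = l⁻¹ * (m⁻¹ * (k * l * k⁻¹) * m) := by rw [hkl]; group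
          _ = l⁻¹ * (c * l * c⁻¹) := by rw [hck]; group
          _ = n := by rw [hc]; group
      have hinj := Finite.injective_iff_surjective.2 hsurj
      have hfy : f ⟨y, hy⟩ = f 1 := Subtype.ext (by
        show l⁻¹ * y * l * y⁻¹ = l⁻¹ * 1 * l * 1⁻¹
        rw [mul_assoc l⁻¹, ← hly]; group)
      exact hy1 (congrArg Subtype.val (hinj hfy))
    have hle : Subgroup.centralizer ({x} : Set G) ≤ N := by
      intro c hc
      obtain ⟨m, hm, hmc⟩ := hsplit c
      by_contra hcN
      have hl1 : m * c ≠ 1 := fun he => hcN (eq_inv_of_mul_eq_one_right he ▸ N.inv_mem hm)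
      have hlx : m * c * x = x * (m * c) := Subgroup.mem_centralizer_singleton_iff.1
        (Subgroup.mul_mem _ (hNle x (h.self_mem hN) hm) hc)
      exact h.ne_one (hfpf _ hmc hl1 x (h.self_mem hN) hlx)
    have := Subgroup.card_le_of_le hle
    rw [hC x (h.self_mem hN) h.ne_one, hq, Nat.pow_le_pow_iff_right hp.one_lt] at this
    omega

/-- If the support is the whole `p`-core, the group is a doubly transitive Frobenius group. -/
theorem exists_frobenius (h : IsTwoClass χ x) (hN : ∀ g : G, g ∈ N ↔ (χ : G → ℂ) g ≠ 0)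
    (hNp : IsPGroup p N) (hO : N = Cfsg.pCore p G) :
    ∃ H : Subgroup G, Cfsg.IsFrobeniusComplement H ∧ Cfsg.frobeniusKernel H = (N : Set G) ∧
      Nat.card H + 1 = Nat.card N := by
  obtain ⟨hG, hcent⟩ := h.regular_of_eq_pCore hN hNp hO
  have hcomm := h.comm hN hNp
  have hidx : N.index = Nat.card N - 1 := by
    have h2 := Subgroup.card_mul_index N
    rw [hG] at h2
    exact Nat.eq_of_mul_eq_mul_left Nat.card_pos h2
  have hcop : Nat.Coprime (Nat.card N) N.index := by
    rw [hidx]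
    refine Nat.coprime_of_dvd fun k hk h1 h2 => ?_
    have h3 := Nat.dvd_sub h1 h2
    rw [Nat.sub_sub_self (Nat.one_le_iff_ne_zero.2 Nat.card_pos.ne')] at h3
    exact hk.not_dvd_one h3
  obtain ⟨H, hH⟩ := Subgroup.exists_right_complement'_of_coprime hcop
  have hcardH : Nat.card H + 1 = Nat.card N := by
    have h2 := hH.card_mul_card
    rw [hG] at h2
    rw [Nat.eq_of_mul_eq_mul_left Nat.card_pos h2, Nat.sub_add_cancel]
    exact Nat.card_pos
  have hdisj : ∀ k ∈ N, k ∈ H → k = 1 := fun k hkN hkH =>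
    Subgroup.disjoint_def.1 hH.disjoint hkN hkH
  have hfac : ∀ g : G, ∃ n ∈ N, ∃ k ∈ H, g = n * k := by
    intro g
    obtain ⟨⟨⟨n, hn⟩, ⟨k, hk⟩⟩, he⟩ := hH.2 g
    exact ⟨n, hn, k, hk, he.symm⟩
  have hfix : ∀ k ∈ H, k ≠ 1 → ∀ n ∈ N, k * n = n * k → n = 1 := by
    intro k hk hk1 n hn hc
    by_contra hn1
    exact hk1 (hdisj k ((hcent n hn hn1).le (Subgroup.mem_centralizer_singleton_iff.2 hc)) hk)
  refine ⟨H, ⟨?_, ?_, ?_⟩, ?_, hcardH⟩
  · intro hbot
    rw [hbot, Subgroup.card_bot] at hcardH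
    have := h.two_lt
    rw [hG, ← hcardH] at this
    omega
  · intro htop
    rw [htop, Subgroup.card_top, hG] at hcardH
    have hN2 : 2 ≤ Nat.card N := by
      rw [h.card_support hN]
      have := h.class_pos
      omega
    have h1 : 1 ≤ Nat.card N - 1 := by omega
    have h2 := Nat.le_mul_of_pos_right (Nat.card N) h1
    omega
  · intro g hg
    rw [Subgroup.eq_bot_iff_forall]
    intro y hy
    obtain ⟨hyH, hyg⟩ := Subgroup.mem_inf.1 hy
    rw [CfsgLib.FrobComp.smul_mem_iff] at hyg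
    obtain ⟨n, hn, k, hk, rfl⟩ := hfac g
    by_contra hy1
    have hn' : n⁻¹ * y * n ∈ H := by
      have h1 := H.mul_mem (H.mul_mem hk hyg) (H.inv_mem hk)
      have he : k * ((n * k)⁻¹ * y * (n * k)) * k⁻¹ = n⁻¹ * y * n := by group
      rwa [he] at h1
    have hmem : y⁻¹ * (n⁻¹ * y * n) ∈ N := by
      have he : y⁻¹ * (n⁻¹ * y * n) = (y⁻¹ * n⁻¹ * y) * n := by group
      rw [he]
      exact N.mul_mem (by
        simpa using (inferInstance : N.Normal).conj_mem _ (N.inv_mem hn) y⁻¹) hn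
    have heq := inv_mul_eq_one.1 (hdisj _ hmem (H.mul_mem (H.inv_mem hyH) hn'))
    have hn1 : n = 1 := hfix y hyH hy1 n hn (by
      conv_rhs => rw [heq]
      group)
    exact hg (by rw [hn1, one_mul]; exact hk)
  · ext g
    rw [CfsgLib.FrobComp.mem_kernel_iff, SetLike.mem_coe]
    constructor
    · rintro (rfl | hg)
      · exact N.one_mem
      · obtain ⟨n, hn, k, hk, rfl⟩ := hfac g
        by_cases hk1 : k = 1
        · rw [hk1, mul_one]; exact hn
        obtain ⟨m, hm, hmn⟩ := exists_commutator_eq hcomm (g := k⁻¹)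
          (fun y hy hc => hfix k hk hk1 y hy (by
            calc k * y = k * (y * k⁻¹) * k := by group
              _ = k * (k⁻¹ * y) * k := by rw [hc]
              _ = y * k := by group)) (N.inv_mem hn)
        exfalso
        refine hg m ?_
        rw [← inv_inv n, ← hmn]
        have he : m⁻¹ * ((k⁻¹⁻¹ * m * k⁻¹ * m⁻¹)⁻¹ * k) * m = k := by group
        rw [he]
        exact hk
    · intro hg
      by_cases hg1 : g = 1
      · exact Or.inl hg1
      refine Or.inr fun a ha => hg1 ?_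
      have := hdisj _ (by simpa using (inferInstance : N.Normal).conj_mem g hg a⁻¹) ha
      calc g = a * (a⁻¹ * g * a) * a⁻¹ := by group
        _ = 1 := by rw [this]; group

end IsTwoClass

end CfsgLib.TwoClasses
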