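import Cfsg.Agent.FrobComp.SylowStructure
import Cfsg.Agent.TwoGroupsQ.UniqueInvolution
import Cfsg.Agent.TwoGroups.Basic
import Cfsg.Agent.Solvable.Fitting
import Cfsg.Agent.PLocal.Cores
import Cfsg.Agent.Transfer.NormalPComplement
import Mathlib.GroupTheory.SpecificGroups.Cyclic
import Mathlib.GroupTheory.SpecificGroups.Quaternion
import Mathlib.GroupTheory.GroupAction.Quotient

/-!
# Solvable groups transitive on an elementary abelian group with `p`-group stabilisers

Such a group with trivial `p`-core has derived group of order prime to `p`.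
-/

set_option autoImplicit false
set_option linter.style.haveILetI false
set_option linter.unusedSectionVars false

namespace CfsgLib.TwoClasses

open CfsgLib

universe u v

variable {H : Type u} [Group H] [Finite H]

theorem commutator_le_centralizer_of_isCyclic (A : Subgroup H) [A.Normal] [hA : IsCyclic A] :
    commutator H ≤ Subgroup.centralizer (A : Set H) := by
  intro g hg
  let f : H →* (ZMod (Nat.card A))ˣ :=
    (IsCyclic.mulAutMulEquiv A).toMonoidHom.comp (MulAut.conjNormal (H := A))
  have hf : f g = 1 := MonoidHom.mem_ker.1 (Abelianization.commutator_subset_ker f hg)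
  have h1 : MulAut.conjNormal (H := A) g = 1 := by
    apply (IsCyclic.mulAutMulEquiv A).injective
    simpa [f] using hf
  refine Subgroup.mem_centralizer_iff.2 fun a ha => ?_
  have h2 := congrArg Subtype.val (DFunLike.congr_fun h1 ⟨a, ha⟩)
  rw [MulAut.conjNormal_apply] at h2
  exact (mul_inv_eq_iff_eq_mul.1 h2).symm

/-- An element of odd prime order moving `x` by a commuting `2`-element fixes `x`. -/
theorem eq_one_of_conj_eq_mul {p : ℕ} [Fact p.Prime] (hp : p ≠ 2) {g x a : H} (hg : g ^ p = 1)
    (hga : Commute g a) {k : ℕ} (ha : a ^ (2 ^ k) = 1) (h : g * x * g⁻¹ = x * a) : a = 1 := by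
  have key : ∀ n : ℕ, g ^ n * x * (g ^ n)⁻¹ = x * a ^ n := by
    intro n
    induction n with
    | zero => simp
    | succ n ih =>
      rw [pow_succ' g, show g * g ^ n * x * (g * g ^ n)⁻¹ = g * (g ^ n * x * (g ^ n)⁻¹) * g⁻¹ by
        group, ih, show g * (x * a ^ n) * g⁻¹ = (g * x * g⁻¹) * (g * a ^ n * g⁻¹) by group, h,
        (hga.pow_right n).eq, mul_inv_cancel_right, mul_assoc, ← pow_succ']
  have h1 := key p
  rw [hg, one_mul, inv_one, mul_one, eq_comm, mul_eq_left] at h1
  have h2 : a ^ Nat.gcd p (2 ^ k) = 1 := pow_gcd_eq_one.2 ⟨h1, ha⟩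
  rwa [Nat.Coprime.pow_right k ((Nat.coprime_primes Fact.out Nat.prime_two).2 hp), pow_one] at h2

section

variable {V : Type v} [CommGroup V] [Finite V] [Nontrivial V] {p : ℕ} [Fact p.Prime]
variable [Group.IsSolvable H] (ρ : H →* MulAut V) (hinj : Function.Injective ρ)
  (hexp : ∀ v : V, v ^ p = 1)
  (htrans : ∀ v w : V, v ≠ 1 → w ≠ 1 → ∃ h : H, ρ h v = w)
  (hstab : ∀ (h : H) (v : V), v ≠ 1 → ρ h v = v → ∃ k : ℕ, orderOf h = p ^ k)
  (hcore : Cfsg.pCore p H = ⊥)

include hcore in
theorem not_dvd_card_fitting : ¬ p ∣ Nat.card (Cfsg.fittingSubgroup H) := by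
  intro hd
  haveI := Solvable.fittingSubgroup_normal (G := H)
  haveI := Solvable.fittingSubgroup_isNilpotent (G := H)
  let P : Sylow p (Cfsg.fittingSubgroup H) := default
  have hPn : (P : Subgroup (Cfsg.fittingSubgroup H)).Normal := inferInstance
  haveI := P.characteristic_of_normal hPn
  have hle : (P : Subgroup (Cfsg.fittingSubgroup H)).map (Cfsg.fittingSubgroup H).subtype ≤ ⊥ :=
    hcore ▸ Solvable.le_pCore (P.isPGroup'.map _)
  rw [le_bot_iff, Subgroup.map_eq_bot_iff_of_injective _ (Subgroup.subtype_injective _)] at hle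
  exact P.ne_bot_of_dvd_card hd hle

include hexp in
theorem card_eq_pow : ∃ a : ℕ, Nat.card V = p ^ a :=
  IsPGroup.iff_card.1 fun v => ⟨1, by rw [pow_one]; exact hexp v⟩

include hcore hstab in
theorem free_fitting {h : H} (hh : h ∈ Cfsg.fittingSubgroup H) {v : V} (hv : v ≠ 1)
    (hfix : ρ h v = v) : h = 1 := by
  obtain ⟨k, hk⟩ := hstab h v hv hfix
  rcases Nat.eq_zero_or_pos k with rfl | hk0
  · exact orderOf_eq_one_iff.1 (by simpa using hk)
  · refine absurd ?_ (not_dvd_card_fitting hcore)
    exact ((dvd_pow_self p hk0.ne').trans hk.symm.dvd).trans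
      (Subgroup.orderOf_dvd_natCard _ hh)

/-- The action of a subgroup, written additively. -/
def addAct (F : Subgroup H) : F →* AddMonoid.End (Additive V) where
  toFun h := MonoidHom.toAdditive (ρ h).toMonoidHom
  map_one' := by ext x; simp; rfl
  map_mul' a b := by ext x; simp; rfl

include hcore hstab in
theorem isFree_fitting : FrobComp.IsFree (addAct ρ (Cfsg.fittingSubgroup H)) := by
  intro h h1 x hx
  by_contra hx0
  exact h1 (Subtype.ext (free_fitting ρ hstab hcore h.2 (v := x.toMul)
    (fun e => hx0 (congrArg Additive.ofMul e)) (congrArg Additive.toMul hx)))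

include hcore hstab in
theorem uniqueOrderP_pCore (r : ℕ) [Fact r.Prime] :
    FrobComp.UniqueOrderP r (Cfsg.pCore r H) := by
  have hle : Cfsg.pCore r H ≤ Cfsg.fittingSubgroup H := Solvable.pCore_le_fittingSubgroup r
  have e := Subgroup.subgroupOfEquivOfLe hle
  have hu := FrobComp.uniqueOrderP_of_free (isFree_fitting ρ hstab hcore) (p := r)
    (P := (Cfsg.pCore r H).subgroupOf (Cfsg.fittingSubgroup H))
    ((Solvable.isPGroup_pCore r).of_equiv e.symm)
  intro x y hx hy hx1
  obtain ⟨i, hi⟩ := Subgroup.mem_zpowers_iff.1 (hu (e.symm x) (e.symm y)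
    (by rw [← map_pow, hx, map_one]) (by rw [← map_pow, hy, map_one])
    (fun he => hx1 (by rw [← e.apply_symm_apply x, he, map_one])))
  refine Subgroup.mem_zpowers_iff.2 ⟨i, e.symm.injective ?_⟩
  rw [map_zpow, hi]

include hinj hcore hstab in
theorem inversion {z : H} (hz : z ∈ Cfsg.fittingSubgroup H) (hz1 : z ≠ 1) (hzz : z * z = 1)
    (v : V) : ρ z v = v⁻¹ := by
  by_contra hne
  refine hz1 (free_fitting ρ hstab hcore hz (v := ρ z v * v)
    (fun he => hne (eq_inv_of_mul_eq_one_left he)) ?_)
  rw [map_mul, ← MulAut.mul_apply, ← map_mul, hzz, map_one, MulAut.one_apply, mul_comm]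

include hinj hexp htrans hstab hcore in
/-- In characteristic `3` a quaternion normal subgroup of order 8 forces `|V| = 9`. -/
theorem card_eq_nine (hp3 : p = 3) (Q : Subgroup H) [Q.Normal]
    (hQF : Q ≤ Cfsg.fittingSubgroup H) (e : Q ≃* QuaternionGroup 2) : Nat.card V = 9 := by
  classical
  subst hp3
  have h3 : ∀ x : V, x * x * x = 1 := fun x => by rw [← hexp x, pow_succ, pow_two]
  have hxx : ∀ x : V, x * x = x⁻¹ := fun x => eq_inv_of_mul_eq_one_left (h3 x)
  obtain ⟨i, hi, j, hj, hij⟩ := TwoGroups.quaternion8_not_comm e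
  obtain ⟨hconj, hsq, hz1⟩ := TwoGroups.quaternion8_inverts e hi hj hij
  set z := i * i with hz
  have hzQ : z ∈ Q := Q.mul_mem hi hi
  have hzz : z * z = 1 := TwoGroups.quaternion8_pow_four e hi
  have hZ : ∀ v, ρ z v = v⁻¹ := inversion ρ hinj hstab hcore (hQF hzQ) hz1 hzz
  have hII : ∀ v, ρ i (ρ i v) = v⁻¹ := fun v => by rw [← MulAut.mul_apply, ← map_mul]; exact hZ v
  have hJJ : ∀ v, ρ j (ρ j v) = v⁻¹ := fun v => by
    rw [← MulAut.mul_apply, ← map_mul, ← hsq]; exact hZ v
  have hJI : ∀ v, ρ j (ρ i v) = (ρ i (ρ j v))⁻¹ := fun v => by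
    rw [← MulAut.mul_apply, ← MulAut.mul_apply, ← map_mul, ← map_mul, ← hZ, ← MulAut.mul_apply,
      ← map_mul]
    congr 2
    have h1 : i * j = j⁻¹ * i := by rw [← hconj]; group
    have h2 : z * j⁻¹ = j := by rw [hsq]; group
    rw [h1, ← mul_assoc, h2]
  -- the operator `v ↦ v (i v) (j v)`
  let T : V → V := fun v => v * ρ i v * ρ j v
  have hTT : ∀ v, T (T v) = (T v)⁻¹ := by
    intro v
    show v * ρ i v * ρ j v * ρ i (v * ρ i v * ρ j v) * ρ j (v * ρ i v * ρ j v) = _
    simp only [map_mul, hII, hJJ, hJI]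
    calc v * ρ i v * ρ j v * (ρ i v * v⁻¹ * ρ i (ρ j v)) * (ρ j v * (ρ i (ρ j v))⁻¹ * v⁻¹)
        = (ρ i v * ρ i v) * (ρ j v * ρ j v) * v⁻¹ *
          (ρ i (ρ j v) * (ρ i (ρ j v))⁻¹) * (v * v⁻¹) := by ac_rfl
      _ = (v * ρ i v * ρ j v)⁻¹ := by
          rw [hxx, hxx, mul_inv_cancel, mul_inv_cancel, mul_one, mul_one, mul_inv, mul_inv]
          ac_rfl
  obtain ⟨w, hw1, hw⟩ : ∃ w : V, w ≠ 1 ∧ T w = w⁻¹ := by
    by_cases hall : ∀ v, T v = 1
    · exfalso
      apply hij
      apply hinj
      ext v
      have hJ : ∀ x, ρ j x = (x * ρ i x)⁻¹ := fun x => eq_inv_of_mul_eq_one_right (hall x)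
      rw [map_mul, map_mul, MulAut.mul_apply, MulAut.mul_apply, hJ v, hJ (ρ i v), map_inv,
        map_mul, hII]
    · push Not at hall
      obtain ⟨v, hv⟩ := hall
      exact ⟨T v, hv, hTT v⟩
  have hJw : ρ j w = w * (ρ i w)⁻¹ := by
    have h1 : w * ρ i w * ρ j w = w⁻¹ := hw
    rw [eq_inv_mul_of_mul_eq h1, mul_inv, mul_right_comm, ← mul_inv, hxx, inv_inv]
  -- the plane of `w`
  let P : V → Prop := fun v => ∃ W : Subgroup V,
    v ∈ W ∧ Nat.card W ≤ 9 ∧ ∀ q ∈ Q, ∀ x ∈ W, ρ q x ∈ W
  have hPw : P w := by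
    let W := Subgroup.zpowers w ⊔ Subgroup.zpowers (ρ i w)
    have hwW : w ∈ W := Subgroup.mem_sup_left (Subgroup.mem_zpowers _)
    have hiW : ρ i w ∈ W := Subgroup.mem_sup_right (Subgroup.mem_zpowers _)
    refine ⟨W, hwW, ?_, fun q hq => ?_⟩
    · have h2 : ∀ x : V, Nat.card (Subgroup.zpowers x) ≤ 3 := fun x => by
        rw [Nat.card_zpowers]; exact orderOf_le_of_pow_eq_one (by norm_num) (hexp x)
      exact le_trans (Nat.le_of_dvd (Nat.mul_pos Nat.card_pos Nat.card_pos)
        (PLocal.card_sup_dvd_mul _ _)) (Nat.mul_le_mul (h2 _) (h2 _))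
    · let S : Subgroup H :=
        { carrier := {h | W.map (ρ h).toMonoidHom = W}
          mul_mem' := fun {a b} (ha : W.map (ρ a).toMonoidHom = W)
            (hb : W.map (ρ b).toMonoidHom = W) => by
            show W.map (ρ (a * b)).toMonoidHom = W
            conv_rhs => rw [← ha, ← hb, Subgroup.map_map]
            rw [map_mul]; rfl
          one_mem' := by
            show W.map (ρ 1).toMonoidHom = W
            rw [map_one]; exact Subgroup.map_id W
          inv_mem' := fun {a} (ha : W.map (ρ a).toMonoidHom = W) => by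
            show W.map (ρ a⁻¹).toMonoidHom = W
            conv_lhs => rw [← ha, Subgroup.map_map]
            rw [show ((ρ a⁻¹).toMonoidHom.comp (ρ a).toMonoidHom) = MonoidHom.id V from
              MonoidHom.ext fun x => by
                show ρ a⁻¹ (ρ a x) = x
                rw [← MulAut.mul_apply, ← map_mul, inv_mul_cancel, map_one, MulAut.one_apply]]
            exact Subgroup.map_id W }
      have hmk : ∀ h : H, ρ h w ∈ W → ρ h (ρ i w) ∈ W → h ∈ S := by
        intro h h1 h2
        refine Subgroup.eq_of_le_of_card_ge ?_ (le_of_eq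
          (Subgroup.card_map_of_injective (ρ h).injective).symm)
        rw [Subgroup.map_sup, MonoidHom.map_zpowers, MonoidHom.map_zpowers]
        exact sup_le (Subgroup.zpowers_le.2 h1) (Subgroup.zpowers_le.2 h2)
      have hiS : i ∈ S := hmk i hiW (by rw [hII]; exact W.inv_mem hwW)
      have hjS : j ∈ S := hmk j (by rw [hJw]; exact W.mul_mem hwW (W.inv_mem hiW))
        (by rw [hJI, hJw, map_mul, map_inv, hII, inv_inv]; exact W.inv_mem (W.mul_mem hiW hwW))
      have hQS : Q ≤ S := by
        have hle : Subgroup.closure {i, j} ≤ S :=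
          (Subgroup.closure_le _).2 (Set.insert_subset hiS (Set.singleton_subset_iff.2 hjS))
        refine le_trans ?_ hle
        have hle' : Subgroup.closure {i, j} ≤ Q :=
          (Subgroup.closure_le _).2 (Set.insert_subset hi (Set.singleton_subset_iff.2 hj))
        refine (Subgroup.eq_of_le_of_card_ge hle' ?_).ge
        rw [TwoGroups.card_quaternion8 e]
        -- the closure has more than four elements
        by_contra hlt
        push Not at hlt
        have hd := Subgroup.card_dvd_of_le hle'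
        rw [TwoGroups.card_quaternion8 e] at hd
        haveI : Fact (Nat.Prime 2) := ⟨Nat.prime_two⟩
        have hd4 : Nat.card (Subgroup.closure ({i, j} : Set H)) ∣ 2 ^ 2 := by
          obtain ⟨k, hk, hk'⟩ := (Nat.dvd_prime_pow Nat.prime_two (m := 3)).1 hd
          rw [hk'] at hlt ⊢
          have : k < 3 := (Nat.pow_lt_pow_iff_right (a := 2) one_lt_two).1 hlt
          exact pow_dvd_pow 2 (by omega)
        apply hij
        have hA : IsMulCommutative (Subgroup.closure ({i, j} : Set H)) := by
          obtain ⟨k, hk, hk'⟩ := (Nat.dvd_prime_pow Nat.prime_two).1 hd4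
          interval_cases k
          · haveI : Subsingleton (Subgroup.closure ({i, j} : Set H)) :=
              (Nat.card_eq_one_iff_unique.1 hk').1
            exact ⟨⟨fun a b => Subsingleton.elim _ _⟩⟩
          · haveI : IsCyclic (Subgroup.closure ({i, j} : Set H)) :=
              isCyclic_of_prime_card (p := 2) (by simpa using hk')
            infer_instance
          · exact IsPGroup.isMulCommutative_of_card_eq_prime_sq hk'
        exact congrArg Subtype.val (hA.is_comm.comm ⟨i, Subgroup.subset_closure (by simp)⟩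
          ⟨j, Subgroup.subset_closure (by simp)⟩)
      intro x hx
      have hqS : W.map (ρ q).toMonoidHom = W := hQS hq
      rw [← hqS]; exact ⟨x, hx, rfl⟩
  have hP : ∀ v : V, v ≠ 1 → P v := by
    intro v hv
    obtain ⟨h, rfl⟩ := htrans w v hw1 hv
    obtain ⟨W, hwW, hW9, hWQ⟩ := hPw
    refine ⟨W.map (ρ h).toMonoidHom, ⟨w, hwW, rfl⟩,
      (Subgroup.card_map_of_injective (ρ h).injective).trans_le hW9, fun q hq x hx => ?_⟩
    obtain ⟨y, hy, rfl⟩ := hx
    refine ⟨ρ (h⁻¹ * q * h) y, hWQ _ (by simpa using ‹Q.Normal›.conj_mem q hq h⁻¹) y hy, ?_⟩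
    show ρ h (ρ (h⁻¹ * q * h) y) = ρ q (ρ h y)
    rw [← MulAut.mul_apply, ← MulAut.mul_apply, ← map_mul, ← map_mul]
    congr 2
    group
  -- each plane is `{1} ∪ Q v`
  have hfree : ∀ q ∈ Q, ∀ q' ∈ Q, ∀ v : V, v ≠ 1 → ρ q v = ρ q' v → q = q' := by
    intro q hq q' hq' v hv he
    have := free_fitting ρ hstab hcore (hQF (Q.mul_mem (Q.inv_mem hq') hq)) hv (by
      rw [map_mul, MulAut.mul_apply, he, ← MulAut.mul_apply, ← map_mul, inv_mul_cancel, map_one,
        MulAut.one_apply])
    exact (inv_mul_eq_one.1 this).symm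
  have horbit : ∀ (W : Subgroup V) (t : V), t ≠ 1 → t ∈ W → Nat.card W ≤ 9 →
      (∀ q ∈ Q, ∀ x ∈ W, ρ q x ∈ W) → ∀ x ∈ W, x ≠ 1 → ∃ q ∈ Q, x = ρ q t := by
    intro W t ht htW hW9 hWQ x hx hx1
    by_contra hne
    push Not at hne
    let f : Option (Option Q) → W := fun o => match o with
      | none => ⟨x, hx⟩
      | some none => 1
      | some (some q) => ⟨ρ q t, hWQ q q.2 t htW⟩
    have hf : Function.Injective f := by
      rintro (_ | _ | a) (_ | _ | b) hab <;> have hab' := congrArg Subtype.val hab <;>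
        simp only [f, Subgroup.coe_one] at hab'
      · rfl
      · exact absurd hab' hx1
      · exact absurd hab' (hne b b.2)
      · exact absurd hab'.symm hx1
      · rfl
      · exact absurd hab'.symm fun h0 => ht ((ρ (b : H)).injective (h0.trans (map_one _).symm))
      · exact absurd hab'.symm (hne a a.2)
      · exact absurd hab' fun h0 => ht ((ρ (a : H)).injective (h0.trans (map_one _).symm))
      · rw [Subtype.ext (hfree a a.2 b b.2 t ht hab')]
    have h1 := Nat.card_le_card_of_injective f hf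
    rw [Finite.card_option, Finite.card_option, TwoGroups.card_quaternion8 e] at h1
    omega
  obtain ⟨W, hwW, hW9, hWQ⟩ := hPw
  have hV9 : Nat.card V ≤ 9 := by
    by_contra hlt
    push Not at hlt
    have hex : ∀ v : V, v ≠ 1 → ∃ q ∈ Q, v * ρ i v = ρ q v := by
      intro v hv
      obtain ⟨U, hvU, hU9, hUQ⟩ := hP v hv
      refine horbit U v hv hvU hU9 hUQ _ (U.mul_mem hvU (hUQ i hi v hvU)) fun he => ?_
      have h1 : ρ i v = ρ z v := by rw [hZ]; exact eq_inv_of_mul_eq_one_right he
      have hiz := hfree i hi z hzQ v hv h1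
      rw [hz, left_eq_mul] at hiz
      exact hij (by rw [hiz, one_mul, mul_one])
    -- planes meet trivially
    have hmeet : ∀ (A B : Subgroup V) (a b : V), a ≠ 1 → b ≠ 1 → a ∈ A → b ∈ B →
        Nat.card A ≤ 9 → Nat.card B ≤ 9 → (∀ q ∈ Q, ∀ x ∈ A, ρ q x ∈ A) →
        (∀ q ∈ Q, ∀ x ∈ B, ρ q x ∈ B) → b ∉ A → A ⊓ B = ⊥ := by
      intro A B a b ha hb haA hbB hA hB hAQ hBQ hbA
      rw [Subgroup.eq_bot_iff_forall]
      intro t ht
      by_contra ht1
      obtain ⟨q, hq, rfl⟩ := horbit B t ht1 ht.2 hB hBQ b hbB hb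
      exact hbA (hAQ q hq t ht.1)
    have hsame : ∀ (A : Subgroup V) (a b : V), a ≠ 1 → a ∈ A → Nat.card A ≤ 9 →
        (∀ q ∈ Q, ∀ x ∈ A, ρ q x ∈ A) → b ∉ A → ∀ qa ∈ Q, ∀ qb ∈ Q,
        a * ρ i a = ρ qa a → b * ρ i b = ρ qb b → qa = qb := by
      intro A a b ha haA hA hAQ hbA qa hqa qb hqb hea heb
      have hb : b ≠ 1 := fun h => hbA (h ▸ A.one_mem)
      obtain ⟨B, hbB, hB, hBQ⟩ := hP b hb
      have hbot := hmeet A B a b ha hb haA hbB hA hB hAQ hBQ hbA
      have hab : a * b ≠ 1 := fun h => hbA (by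
        rw [eq_inv_of_mul_eq_one_right h]; exact A.inv_mem haA)
      obtain ⟨q, hq, heq⟩ := hex (a * b) hab
      rw [map_mul, map_mul, mul_mul_mul_comm, hea, heb, mul_comm (ρ q a),
        ← div_eq_div_iff_mul_eq_mul] at heq
      have hl : ρ qa a / ρ q a ∈ A ⊓ B :=
        ⟨A.div_mem (hAQ qa hqa a haA) (hAQ q hq a haA),
          heq ▸ B.div_mem (hBQ q hq b hbB) (hBQ qb hqb b hbB)⟩
      rw [hbot, Subgroup.mem_bot] at hl
      rw [hl, eq_comm] at heq
      exact (hfree qa hqa q hq a ha (div_eq_one.1 hl)).trans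
        (hfree q hq qb hqb b hb (div_eq_one.1 heq))
    obtain ⟨u, hu⟩ : ∃ u, u ∉ W := by
      by_contra hall
      push Not at hall
      rw [← Subgroup.eq_top_iff'] at hall
      rw [hall, Subgroup.card_top] at hW9
      omega
    obtain ⟨q0, hq0, he0⟩ := hex w hw1
    have hall : ∀ t : V, t * ρ i t = ρ q0 t := by
      intro t
      by_cases ht : t = 1
      · simp [ht]
      obtain ⟨qt, hqt, het⟩ := hex t ht
      suffices q0 = qt by rw [this]; exact het
      by_cases htW : t ∈ W
      · have hu1 : u ≠ 1 := fun h => hu (h ▸ W.one_mem)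
        obtain ⟨qu, hqu, heu⟩ := hex u hu1
        exact (hsame W w u hw1 hwW hW9 hWQ hu q0 hq0 qu hqu he0 heu).trans
          (hsame W t u ht htW hW9 hWQ hu qt hqt qu hqu het heu).symm
      · exact hsame W w t hw1 hwW hW9 hWQ htW q0 hq0 qt hqt he0 het
    have hzi : z * i = q0 * q0 := by
      apply hinj
      ext v
      rw [map_mul ρ z i, map_mul ρ q0 q0, MulAut.mul_apply, MulAut.mul_apply, hZ, ← hall (ρ q0 v), ← hall v,
        map_mul, hII, ← hxx, show v * ρ i v * (ρ i v * v⁻¹) = (ρ i v * ρ i v) * (v * v⁻¹) by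
          ac_rfl, mul_inv_cancel, mul_one]
    have hc : (z * i) * j = j * (z * i) := hzi ▸ TwoGroups.quaternion8_sq_eq_one e
      (Q.mul_mem hq0 hq0) hj (TwoGroups.quaternion8_pow_four e hq0)
    have hcz : z * j = j * z := TwoGroups.quaternion8_sq_eq_one e hzQ hj hzz
    rw [mul_assoc, ← mul_assoc j, ← hcz, mul_assoc z] at hc
    exact hij (mul_left_cancel hc)
  refine le_antisymm hV9 ?_
  let f : Option Q → V := fun o => match o with
    | none => 1
    | some q => ρ q w
  have hf : Function.Injective f := by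
    rintro (_ | a) (_ | b) hab <;> simp only [f] at hab
    · rfl
    · exact absurd hab.symm fun h0 => hw1 ((ρ (b : H)).injective (h0.trans (map_one _).symm))
    · exact absurd hab fun h0 => hw1 ((ρ (a : H)).injective (h0.trans (map_one _).symm))
    · rw [Subtype.ext (hfree a a.2 b b.2 w hw1 hab)]
  have h1 := Nat.card_le_card_of_injective f hf
  rwa [Finite.card_option, TwoGroups.card_quaternion8 e] at h1

include hexp htrans hstab in
theorem card_eq_of_transitive {v : V} (hv : v ≠ 1) :
    ∃ k : ℕ, Nat.card H = (Nat.card V - 1) * p ^ k := by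
  classical
  let S : Subgroup H :=
    { carrier := {h | ρ h v = v}
      mul_mem' := fun {a b} (ha : ρ a v = v) (hb : ρ b v = v) => by
        show ρ (a * b) v = v
        rw [map_mul, MulAut.mul_apply, hb, ha]
      one_mem' := by show ρ 1 v = v; rw [map_one]; rfl
      inv_mem' := fun {a} (ha : ρ a v = v) => by
        show ρ a⁻¹ v = v
        conv_lhs => rw [← ha]
        rw [← MulAut.mul_apply, ← map_mul, inv_mul_cancel, map_one]; rfl }
  have hS : IsPGroup p S := by
    rw [IsPGroup.iff_orderOf]
    intro s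
    obtain ⟨k, hk⟩ := hstab s v hv s.2
    exact ⟨k, by rw [← Subgroup.orderOf_coe, hk]⟩
  obtain ⟨k, hk⟩ := IsPGroup.iff_card.1 hS
  have hidx : S.index = Nat.card V - 1 := by
    have hb : Nat.card (H ⧸ S) = Nat.card {w : V // w ≠ 1} := by
      refine Nat.card_congr (Equiv.ofBijective (fun q => Quotient.liftOn' q
        (fun h => (⟨ρ h v, fun he => hv ((ρ h).injective (he.trans (map_one _).symm))⟩ :
          {w : V // w ≠ 1})) fun a b hab => ?_) ⟨?_, ?_⟩)
      · have : ρ (a⁻¹ * b) v = v := QuotientGroup.leftRel_apply.1 hab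
        refine Subtype.ext ?_
        show ρ a v = ρ b v
        conv_lhs => rw [← this]
        rw [← MulAut.mul_apply, ← map_mul, mul_inv_cancel_left]
      · intro a b hab
        induction a using Quotient.inductionOn' with
        | h a => induction b using Quotient.inductionOn' with
          | h b =>
            refine Quotient.sound' (QuotientGroup.leftRel_apply.2 ?_)
            show ρ (a⁻¹ * b) v = v
            have : ρ a v = ρ b v := congrArg Subtype.val hab
            rw [map_mul, MulAut.mul_apply, ← this, ← MulAut.mul_apply, ← map_mul, inv_mul_cancel,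
              map_one]
            rfl
      · rintro ⟨w, hw⟩
        obtain ⟨h, hh⟩ := htrans v w hv hw
        exact ⟨QuotientGroup.mk h, Subtype.ext hh⟩
    haveI := Fintype.ofFinite V
    rw [Subgroup.index_eq_card, hb, Nat.card_eq_fintype_card, Nat.card_eq_fintype_card,
      Fintype.card_subtype_compl, Fintype.card_subtype_eq]
  exact ⟨k, by rw [← Subgroup.card_mul_index S, hk, hidx, mul_comm]⟩

include hinj hexp htrans hstab hcore in
theorem not_dvd_card_commutator : ¬ p ∣ Nat.card (commutator H) := by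
  classical
  haveI := Solvable.fittingSubgroup_normal (G := H)
  intro hd
  obtain ⟨g', hg'⟩ := exists_prime_orderOf_dvd_card' p hd
  obtain ⟨g, hgd⟩ := g'
  rw [Subgroup.orderOf_mk] at hg'
  have hgp : g ^ p = 1 := hg' ▸ pow_orderOf_eq_one g
  suffices hcen : ∀ r : Nat.Primes, Cfsg.pCore (r : ℕ) H ≤ Subgroup.centralizer {g} by
    have hgF : g ∈ Cfsg.fittingSubgroup H := by
      apply Solvable.centralizer_fittingSubgroup_le (G := H)
      refine Subgroup.mem_centralizer_iff.2 fun x hx => ?_
      rw [SetLike.mem_coe, Solvable.fittingSubgroup_eq_iSup] at hx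
      exact Subgroup.mem_centralizer_singleton_iff.1 (iSup_le hcen hx)
    exact not_dvd_card_fitting hcore (hg' ▸ Subgroup.orderOf_dvd_natCard _ hgF)
  intro r
  haveI : Fact (r : ℕ).Prime := ⟨r.2⟩
  haveI := Solvable.pCore_normal (G := H) (r : ℕ)
  have hu := uniqueOrderP_pCore ρ hstab hcore (r : ℕ)
  have hrG : IsPGroup (r : ℕ) (Cfsg.pCore (r : ℕ) H) := Solvable.isPGroup_pCore _
  have hcyc : IsCyclic (Cfsg.pCore (r : ℕ) H) →
      Cfsg.pCore (r : ℕ) H ≤ Subgroup.centralizer {g} := fun h x hx =>
    Subgroup.mem_centralizer_singleton_iff.2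
      (Subgroup.mem_centralizer_iff.1 (commutator_le_centralizer_of_isCyclic (hA := h) _ hgd) x hx)
  by_cases hp2 : p = 2
  · by_cases hr : (r : ℕ) = 2
    · rw [hr, ← hp2, hcore]; exact bot_le
    · exact hcyc (FrobComp.isCyclic_of_uniqueOrderP hrG hu (Or.inr hr))
  rcases TwoGroupsQ.isCyclic_or_quaternion hrG (fun x y hx hy hy1 => hu y x hy hx hy1) with
    h | ⟨hr2, m, hm, ⟨e⟩⟩
  · exact hcyc h
  set Q := Cfsg.pCore (r : ℕ) H
  have hQF : Q ≤ Cfsg.fittingSubgroup H := Solvable.pCore_le_fittingSubgroup _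
  have hQ2 : ∀ a ∈ Q, ∃ k : ℕ, a ^ (2 ^ k) = 1 := by
    intro a ha
    obtain ⟨k, hk⟩ := hrG ⟨a, ha⟩
    refine ⟨k, ?_⟩
    have := congrArg Subtype.val hk
    rwa [Subgroup.coe_pow, hr2] at this
  rcases eq_or_lt_of_le hm with hm1 | hm2
  · -- the quaternion group of order eight
    subst hm1
    have e8 : Q ≃* QuaternionGroup 2 := by rw [pow_one] at e; exact e
    let φ : H →* Equiv.Perm (Q ⧸ Subgroup.center Q) :=
      { toFun := fun h => (QuotientGroup.congr (Subgroup.center Q) (Subgroup.center Q)
          (MulAut.conjNormal h) (Subgroup.characteristic_iff_map_eq.1 inferInstance _)).toEquiv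
        map_one' := by
          ext q
          induction q using QuotientGroup.induction_on with
          | H x =>
            change QuotientGroup.mk ((MulAut.conjNormal (1 : H)) x) = QuotientGroup.mk x
            rw [map_one]; rfl
        map_mul' := fun a b => by
          ext q
          induction q using QuotientGroup.induction_on with
          | H x =>
            change QuotientGroup.mk ((MulAut.conjNormal (a * b)) x) =
              QuotientGroup.mk (MulAut.conjNormal a (MulAut.conjNormal b x))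
            rw [map_mul]; rfl }
    have hcard4 : Nat.card (Q ⧸ Subgroup.center Q) ≤ 4 := by
      have h1 := Subgroup.card_eq_card_quotient_mul_card_subgroup (Subgroup.center Q)
      rw [TwoGroups.card_quaternion8 e8] at h1
      have h2 : 2 ≤ Nat.card (Subgroup.center Q) := by
        refine Finite.one_lt_card_iff_nontrivial.2 ?_
        haveI : Nontrivial Q := by
          rw [← Finite.one_lt_card_iff_nontrivial, TwoGroups.card_quaternion8 e8]; norm_num
        exact hrG.center_nontrivial
      have h3 := Nat.mul_le_mul_left (Nat.card (Q ⧸ Subgroup.center Q)) h2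
      omega
    have hperm : Nat.card φ.range ∣ 24 := by
      refine (Subgroup.card_subgroup_dvd_card _).trans ?_
      rw [Nat.card_perm]
      exact Nat.factorial_dvd_factorial hcard4
    have hgker : g ∈ φ.ker := by
      by_cases hp3 : p = 3
      · -- the image is a `3`-group
        have hQker : Q ≤ φ.ker := by
          intro a ha
          rw [MonoidHom.mem_ker]
          ext q
          induction q using QuotientGroup.induction_on with
          | H x =>
            change QuotientGroup.mk ((MulAut.conjNormal a) x) = QuotientGroup.mk x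
            rw [QuotientGroup.eq, Subgroup.mem_center_iff]
            intro c
            have he : (MulAut.conjNormal a x : Q) = ⟨a, ha⟩ * x * (⟨a, ha⟩ : Q)⁻¹ :=
              Subtype.ext (by simp [MulAut.conjNormal_apply])
            rw [he]
            have hd : ∀ u y c : QuaternionGroup 2,
                c * ((u * y * u⁻¹)⁻¹ * y) = (u * y * u⁻¹)⁻¹ * y * c := by decide
            exact e8.injective (by simpa using hd (e8 ⟨a, ha⟩) (e8 x) (e8 c))
        obtain ⟨v, hv⟩ := exists_ne (1 : V)
        obtain ⟨k, hk⟩ := card_eq_of_transitive ρ hexp htrans hstab hv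
        rw [card_eq_nine ρ hinj hexp htrans hstab hcore hp3 Q hQF e8, hp3] at hk
        have hQi : Q.index = 3 ^ k := by
          have h1 := Subgroup.card_mul_index Q
          rw [TwoGroups.card_quaternion8 e8, hk] at h1
          exact Nat.eq_of_mul_eq_mul_left (by norm_num) h1
        have hr3 : Nat.card φ.range ∣ 3 := by
          have h1 : Nat.card φ.range ∣ 3 ^ k := by
            rw [← Subgroup.index_ker, ← hQi]; exact Subgroup.index_dvd_of_le hQker
          obtain ⟨j, -, hj⟩ := (Nat.dvd_prime_pow Nat.prime_three).1 h1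
          rw [hj] at hperm ⊢
          rcases Nat.lt_or_ge j 2 with hj2 | hj2
          · exact (pow_dvd_pow 3 (by omega : j ≤ 1)).trans (by norm_num)
          · exact absurd ((pow_dvd_pow 3 hj2).trans hperm) (by norm_num)
        haveI : IsCyclic φ.range := by
          rcases (Nat.dvd_prime Nat.prime_three).1 hr3 with h | h
          · haveI : Subsingleton φ.range := (Nat.card_eq_one_iff_unique.1 h).1
            exact ⟨⟨1, fun x => ⟨0, Subsingleton.elim _ _⟩⟩⟩
          · haveI : Fact (Nat.Prime 3) := ⟨Nat.prime_three⟩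
            exact isCyclic_of_prime_card h
        letI : CommGroup φ.range := IsCyclic.commGroup
        have h1 := MonoidHom.mem_ker.1 (Abelianization.commutator_subset_ker φ.rangeRestrict hgd)
        exact congrArg Subtype.val h1
      · have hd1 : orderOf (φ g) ∣ 24 :=
          (Subgroup.orderOf_dvd_natCard φ.range (MonoidHom.mem_range.2 ⟨g, rfl⟩)).trans hperm
        have hd2 : orderOf (φ g) ∣ p := hg' ▸ orderOf_map_dvd φ g
        rcases (Nat.dvd_prime Fact.out).1 hd2 with h1 | h1
        · exact MonoidHom.mem_ker.2 (orderOf_eq_one_iff.1 h1)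
        · rw [h1] at hd1
          exfalso
          have hd3 : p ∣ 2 ^ 3 * 3 := hd1
          rcases (Nat.Prime.dvd_mul (Fact.out : p.Prime)).1 hd3 with h | h
          · exact hp2 ((Nat.prime_dvd_prime_iff_eq Fact.out Nat.prime_two).1
              ((Fact.out : p.Prime).dvd_of_dvd_pow h))
          · exact hp3 ((Nat.prime_dvd_prime_iff_eq Fact.out Nat.prime_three).1 h)
    intro x hx
    refine Subgroup.mem_centralizer_singleton_iff.2 ?_
    have h1 := Equiv.ext_iff.1 (MonoidHom.mem_ker.1 hgker) (QuotientGroup.mk ⟨x, hx⟩)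
    change QuotientGroup.mk ((MulAut.conjNormal g) (⟨x, hx⟩ : Q)) = QuotientGroup.mk _ at h1
    rw [eq_comm, QuotientGroup.eq] at h1
    set a : Q := (⟨x, hx⟩ : Q)⁻¹ * MulAut.conjNormal g ⟨x, hx⟩ with hadef
    have ha' : (a : H) = x⁻¹ * (g * x * g⁻¹) := by simp [hadef, MulAut.conjNormal_apply]
    have haa : a * a = 1 := Subtype.ext (TwoGroups.quaternion8_central_sq e8 a.2 fun u hu =>
      (congrArg Subtype.val (Subgroup.mem_center_iff.1 h1 ⟨u, hu⟩)).symm)
    have hga : Commute g (a : H) := by
      by_cases ha1 : a = 1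
      · simp [ha1]
      have hb : (MulAut.conjNormal g a : Q) ∈ Subgroup.zpowers a :=
        hu a (MulAut.conjNormal g a) (by rw [hr2, sq, haa])
          (by rw [← map_pow, hr2, sq, haa, map_one]) ha1
      obtain ⟨n, hn⟩ := Subgroup.mem_zpowers_iff.1 hb
      rcases Int.even_or_odd' n with ⟨k, hk | hk⟩
      · rw [hk, zpow_mul, zpow_two, haa, one_zpow] at hn
        exact absurd ((MulAut.conjNormal g).injective (hn.symm.trans (map_one _).symm)) ha1
      · rw [hk, zpow_add, zpow_mul, zpow_two, haa, one_zpow, one_mul, zpow_one] at hn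
        have h2 := congrArg Subtype.val hn.symm
        rw [MulAut.conjNormal_apply] at h2
        exact mul_inv_eq_iff_eq_mul.1 h2
    obtain ⟨k, hk⟩ := hQ2 a a.2
    have h2 : g * x * g⁻¹ = x * (a : H) := by rw [ha']; group
    have h3 := eq_one_of_conj_eq_mul hp2 hgp hga hk h2
    rw [h3, mul_one] at h2
    exact (mul_inv_eq_iff_eq_mul.1 h2).symm
  · -- larger quaternion groups
    have hord : orderOf (e.symm (QuaternionGroup.a 1)) = 2 * 2 ^ m := by
      rw [MulEquiv.orderOf_eq, QuaternionGroup.orderOf_a_one]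
    set y : Q := e.symm (QuaternionGroup.a 1) with hy
    have hy4 : y ^ 4 ≠ 1 := fun h => by
      have h1 := Nat.le_of_dvd (by norm_num) (orderOf_dvd_of_pow_eq_one h)
      rw [hord] at h1
      have : 2 ^ 2 ≤ 2 ^ m := Nat.pow_le_pow_right (by norm_num) hm2
      omega
    let A : Subgroup H := Subgroup.zpowers (y : H)
    have hcase : ∀ q : Q, (q : H) ∈ A ∨ q ^ 4 = 1 := by
      intro q
      obtain ⟨w, rfl⟩ := e.symm.surjective q
      rcases w with k | k
      · left
        have : (QuaternionGroup.a k : QuaternionGroup (2 ^ m)) = QuaternionGroup.a 1 ^ k.val := by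
          rw [QuaternionGroup.a_one_pow, ZMod.natCast_zmod_val]
        rw [this, map_pow, Subgroup.coe_pow]
        exact Subgroup.pow_mem _ (Subgroup.mem_zpowers _) _
      · right
        rw [← map_pow, ← map_one e.symm]
        congr 1
        have := pow_orderOf_eq_one (QuaternionGroup.xa k : QuaternionGroup (2 ^ m))
        rwa [QuaternionGroup.orderOf_xa] at this
    have hAy : ∀ h : H, h * y * h⁻¹ ∈ A := by
      intro h
      rcases hcase (MulAut.conjNormal h y) with h1 | h1
      · rwa [MulAut.conjNormal_apply] at h1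
      · rw [← map_pow] at h1
        exact absurd ((MulAut.conjNormal h).injective (h1.trans (map_one _).symm)) hy4
    haveI : A.Normal := ⟨fun n hn h => by
      obtain ⟨k, rfl⟩ := hn
      show h * (y : H) ^ k * h⁻¹ ∈ A
      rw [← conj_zpow]
      exact Subgroup.zpow_mem _ (hAy h) k⟩
    haveI : IsCyclic A := inferInstanceAs (IsCyclic (Subgroup.zpowers (y : H)))
    have hgA : ∀ a ∈ A, Commute g a := fun a ha =>
      (Subgroup.mem_centralizer_iff.1 (commutator_le_centralizer_of_isCyclic A hgd) a ha).symm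
    set x : Q := e.symm (QuaternionGroup.xa 0) with hx
    have hxA : (x : H) ∉ A := by
      intro h
      obtain ⟨k, hk⟩ := Subgroup.mem_zpowers_iff.1 h
      have h1 : e x = e (y ^ k) := congrArg e (Subtype.ext (by simpa using hk.symm))
      rw [map_zpow, hy, hx, e.apply_symm_apply, e.apply_symm_apply] at h1
      haveI : NeZero (2 * 2 ^ m) := ⟨by positivity⟩
      obtain ⟨j, hj⟩ := Subgroup.mem_zpowers_iff.2 ⟨k, h1.symm⟩ |> mem_powers_iff_mem_zpowers.2
      simp only [QuaternionGroup.a_one_pow] at hj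
      cases hj
    have hxa : (x : H)⁻¹ * (g * x * g⁻¹) ∈ A := by
      obtain ⟨w, hw⟩ := e.symm.surjective (MulAut.conjNormal g x)
      have hw' : (e.symm w : H) = g * x * g⁻¹ := by rw [hw, MulAut.conjNormal_apply]
      rw [← hw']
      rcases w with k | k
      · exfalso
        refine hxA ?_
        have h1 : g * (x : H) * g⁻¹ ∈ A := by
          rw [← hw', ← ZMod.natCast_zmod_val k, ← QuaternionGroup.a_one_pow, map_pow, Subgroup.coe_pow]
          exact Subgroup.pow_mem _ (Subgroup.mem_zpowers _) _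
        have h2 := (inferInstance : A.Normal).conj_mem _ h1 g⁻¹
        simpa [mul_assoc] using h2
      · have : QuaternionGroup.xa k = QuaternionGroup.xa 0 * QuaternionGroup.a 1 ^ k.val := by
          rw [QuaternionGroup.a_one_pow, QuaternionGroup.xa_mul_a, ZMod.natCast_zmod_val, zero_add]
        rw [this, map_mul, map_pow, Subgroup.coe_mul, Subgroup.coe_pow, inv_mul_cancel_left]
        exact Subgroup.pow_mem _ (Subgroup.mem_zpowers _) _
    obtain ⟨k, hk⟩ := hQ2 _ ((Subgroup.zpowers_le.2 y.2 : A ≤ Q) hxa)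
    have hgx : Commute g (x : H) := by
      have h3 := eq_one_of_conj_eq_mul hp2 hgp (hgA _ hxa) hk
        (show g * x * g⁻¹ = x * ((x : H)⁻¹ * (g * x * g⁻¹)) by group)
      rw [inv_mul_eq_one] at h3
      exact mul_inv_eq_iff_eq_mul.1 h3.symm
    intro q hq
    refine Subgroup.mem_centralizer_singleton_iff.2 ?_
    obtain ⟨w, hw⟩ := e.symm.surjective ⟨q, hq⟩
    have hw' : (e.symm w : H) = q := congrArg Subtype.val hw
    rw [← hw']
    suffices hh : Commute g (e.symm w : H) from hh.eq.symm
    rcases w with k | k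
    · rw [← ZMod.natCast_zmod_val k, ← QuaternionGroup.a_one_pow, map_pow, Subgroup.coe_pow]
      exact (hgA _ (Subgroup.mem_zpowers _)).pow_right _
    · rw [show QuaternionGroup.xa k = QuaternionGroup.xa 0 * QuaternionGroup.a 1 ^ k.val by
        rw [QuaternionGroup.a_one_pow, QuaternionGroup.xa_mul_a, ZMod.natCast_zmod_val, zero_add],
        map_mul, map_pow, Subgroup.coe_mul, Subgroup.coe_pow]
      exact hgx.mul_right ((hgA _ (Subgroup.mem_zpowers _)).pow_right _)

end

end CfsgLib.TwoClasses
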